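import Cfsg.Agent.Lib.OrderCounts.SylowCount
import Cfsg.Agent.Lib.SmallSimple.Below1092.Order720
import Cfsg.Agent.Lib.SmallCofactor.PrimeBlock
import Cfsg.Agent.S4212

/-!
# Groups of order `5 n e` with `n` self-centralising Sylow 5-subgroups, `n ∈ {6, 36}`, `e ∈ {2, 4}`
-/

set_option autoImplicit false
set_option linter.style.haveILetI false
set_option linter.unusedSectionVars false

namespace Cfsg.Agent.OrderCounts

open scoped Pointwise

/-- The data of the alternating groups of degree 5 and 6 (`e = 2`) and their possible overgroups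
(`e = 4`). -/
structure Five (H : Type*) [Group H] (n e : ℕ) : Prop where
  deg : n = 6 ∨ n = 36
  exp : e = 2 ∨ e = 4
  card : Nat.card H = 5 * n * e
  count : num H 5 = 4 * n
  cent : ∀ x y : H, orderOf x = 5 → Commute x y → y ∈ Subgroup.zpowers x
  inv : e = 4 → n = 36 → num H 2 = 45

namespace Five

variable {H : Type*} [Group H] [Finite H] {n e : ℕ}

omit [Finite H] in
theorem dvd_and_not (h : Five H n e) : 5 ∣ Nat.card H ∧ ¬ 5 ^ 2 ∣ Nat.card H := by
  rw [h.card]
  rcases h.deg with rfl | rfl <;> rcases h.exp with rfl | rfl <;> norm_num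

theorem factorization (h : Five H n e) : (Nat.card H).factorization 5 = 1 := by
  refine le_antisymm (factorization_le_of_not_dvd Nat.prime_five Nat.card_pos.ne' h.dvd_and_not.2) ?_
  exact (Nat.prime_five.pow_dvd_iff_le_factorization Nat.card_pos.ne').1 (by simpa using h.dvd_and_not.1)

theorem card_sylow (h : Five H n e) : Nat.card (Sylow 5 H) = n := by
  haveI : Fact (Nat.Prime 5) := ⟨Nat.prime_five⟩
  have := num_prime_eq (p := 5) h.factorization
  rw [h.count] at this
  omega

theorem eq_one_of_centralizer (h : Five H n e) {x y : H} (hx : orderOf x = 5)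
    (hy : y ∈ Subgroup.centralizer (Subgroup.zpowers x : Set H)) {d : ℕ} (hd : ¬ 5 ∣ d)
    (hyd : orderOf y ∣ d) : y = 1 := by
  have hc : Commute x y := Subgroup.mem_centralizer_iff.1 hy x (Subgroup.mem_zpowers x)
  obtain ⟨k, rfl⟩ := Subgroup.mem_zpowers_iff.1 (h.cent x y hx hc)
  have h5 : orderOf (x ^ k) ∣ 5 := hx ▸ orderOf_dvd_of_mem_zpowers ⟨k, rfl⟩
  rw [← orderOf_eq_one_iff]
  exact ((Nat.dvd_prime Nat.prime_five).1 h5).resolve_right fun e5 => hd (e5 ▸ hyd)

/-- A non-trivial normal subgroup has order divisible by 5. -/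
theorem five_dvd (h : Five H n e) {N : Subgroup H} [N.Normal] (hN : N ≠ ⊥) : 5 ∣ Nat.card N := by
  haveI : Fact (Nat.Prime 5) := ⟨Nat.prime_five⟩
  haveI : Fact (Nat.Prime 2) := ⟨Nat.prime_two⟩
  by_contra h5
  obtain ⟨x, hx⟩ := num_ne_zero_iff.1 (show num H 5 ≠ 0 by
    rw [h.count]; rcases h.deg with rfl | rfl <;> norm_num)
  have hP : IsPGroup 5 (Subgroup.zpowers x) :=
    IsPGroup.of_card (n := 1) (by rw [Nat.card_zpowers, hx, pow_one])
  have hfix : ∀ S : Set H, S ⊆ N → 1 ∈ S → (∀ u ∈ Subgroup.zpowers x, ∀ s ∈ S, u * s * u⁻¹ ∈ S) →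
      Nat.card S % 5 = 1 := by
    intro S hSN h1 hS
    have := conj_modEq hP S hS
    rw [show Nat.card {s : S // (s : H) ∈ Subgroup.centralizer (Subgroup.zpowers x : Set H)} = 1 from ?_]
      at this
    · simpa [Nat.ModEq] using this
    rw [Nat.card_eq_one_iff_unique]
    refine ⟨⟨fun a b => Subtype.ext (Subtype.ext ?_)⟩, ⟨⟨⟨1, h1⟩, Subgroup.one_mem _⟩⟩⟩
    have : ∀ a : {s : S // (s : H) ∈ Subgroup.centralizer (Subgroup.zpowers x : Set H)},
        ((a.1 : S) : H) = 1 := fun a =>
      h.eq_one_of_centralizer hx a.2 h5 (by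
        have := orderOf_dvd_natCard (⟨_, hSN a.1.2⟩ : N)
        rwa [← Subgroup.orderOf_coe] at this)
    rw [this a, this b]
  have hmod : Nat.card N % 5 = 1 := hfix N subset_rfl (one_mem N)
    fun u _ s hs => Subgroup.Normal.conj_mem inferInstance s hs u
  have hne : 5 * n * e / 5 = n * e := by rw [mul_assoc, Nat.mul_div_cancel_left _ (by norm_num)]
  have hdvd : Nat.card N ∣ n * e := by
    have := Subgroup.card_subgroup_dvd_card N
    rw [h.card, mul_assoc] at this
    exact ((Nat.prime_five.coprime_iff_not_dvd.2 h5).symm).dvd_of_dvd_mul_left this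
  have h144 : Nat.card N ∣ 144 := hdvd.trans (by
    rcases h.deg with rfl | rfl <;> rcases h.exp with rfl | rfl <;> norm_num)
  have hgt : 1 < Nat.card N := (Subgroup.one_lt_card_iff_ne_bot N).2 hN
  have key : ∀ d ∈ (144 : ℕ).divisors, d % 5 = 1 → 1 < d → d = 6 ∨ d = 16 ∨ d = 36 := by
    decide +kernel
  have hroots : ∀ {M : ℕ}, Odd M → M ∣ Nat.card N →
      (∀ r, M ∣ r → r % 5 = 1 → r ≤ Nat.card N → r = Nat.card N) → 2 ∣ Nat.card N → False := by
    intro M hM hMN hr h2
    let S : Set H := {g | g ∈ N ∧ g ^ M = 1}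
    have e : Nat.card S = Nat.card {g : N // g ^ M = 1} := Nat.card_congr
      { toFun := fun s => ⟨⟨s.1, s.2.1⟩, Subtype.ext s.2.2⟩
        invFun := fun g => ⟨g.1.1, g.1.2, congrArg Subtype.val g.2⟩
        left_inv := fun s => rfl
        right_inv := fun g => rfl }
    have hall := hr (Nat.card S) (e ▸ S3993.result M hMN)
      (hfix S (fun s hs => hs.1) ⟨one_mem N, one_pow _⟩ fun u _ s hs =>
        ⟨Subgroup.Normal.conj_mem inferInstance s hs.1 u, by rw [conj_pow, hs.2, mul_one, mul_inv_cancel]⟩)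
      (e ▸ Nat.card_le_card_of_injective _ Subtype.val_injective)
    have hsurj : Function.Surjective (fun g : {g : N // g ^ M = 1} => g.1) :=
      ((Nat.bijective_iff_injective_and_card _).2 ⟨Subtype.val_injective, e ▸ hall⟩).2
    obtain ⟨t, ht⟩ := exists_prime_orderOf_dvd_card' (G := N) 2 h2
    obtain ⟨⟨g, hg⟩, rfl⟩ := hsurj t
    have := orderOf_dvd_of_pow_eq_one hg
    rw [ht] at this
    exact Nat.not_even_iff_odd.2 hM (even_iff_two_dvd.2 this)
  rcases key _ (Nat.mem_divisors.2 ⟨h144, by norm_num⟩) hmod hgt with h6 | h16 | h36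
  · refine hroots (M := 3) (by decide) (by rw [h6]; norm_num) (fun r hr hm hle => ?_) (by rw [h6]; norm_num)
    rw [h6] at hle ⊢
    omega
  · have hne' : n = 36 ∧ e = 4 := by
      rw [h16] at hdvd
      rcases h.deg with rfl | rfl <;> rcases h.exp with rfl | rfl <;> simp_all
    have hidx : N.index = 45 := by
      have := Subgroup.card_mul_index N
      rw [h16, h.card, hne'.1, hne'.2] at this
      omega
    have hmem : ∀ t : H, orderOf t = 2 → t ∈ N := fun t ht => by
      have := Subgroup.pow_index_mem N t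
      rwa [hidx, ← pow_mod_orderOf, ht, pow_one] at this
    have hle : num H 2 ≤ Nat.card N :=
      Nat.card_le_card_of_injective (fun t : {t : H // orderOf t = 2} => (⟨t.1, hmem _ t.2⟩ : N))
        fun a b hab => Subtype.ext (congrArg (fun z : N => (z : H)) hab)
    rw [h.inv hne'.2 hne'.1, h16] at hle
    omega
  · refine hroots (M := 9) (by decide) (by rw [h36]; norm_num) (fun r hr hm hle => ?_) (by rw [h36]; norm_num)
    rw [h36] at hle ⊢
    omega

theorem mem_of_orderOf_eq_five (h : Five H n e) {N : Subgroup H} [N.Normal] (hN : N ≠ ⊥) {g : H}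
    (hg : orderOf g = 5) : g ∈ N := by
  haveI : Fact (Nat.Prime 5) := ⟨Nat.prime_five⟩
  obtain ⟨y, hy⟩ := exists_prime_orderOf_dvd_card' (G := N) 5 (h.five_dvd hN)
  rw [← Subgroup.orderOf_coe] at hy
  obtain ⟨P, hP⟩ := SmallSimple.zpowers_eq_sylow (card_sylow_eq_prime h.factorization) hy
  obtain ⟨Q, hQ⟩ := SmallSimple.zpowers_eq_sylow (card_sylow_eq_prime h.factorization) hg
  obtain ⟨u, hu⟩ := MulAction.exists_smul_eq H P Q
  have hm : g ∈ MulAut.conj u • (P : Subgroup H) := by
    rw [← Sylow.coe_subgroup_smul, hu, hQ]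
    exact Subgroup.mem_zpowers g
  rw [Subgroup.mem_pointwise_smul_iff_inv_smul_mem, hP] at hm
  have hmN := (Subgroup.zpowers_le.2 y.2) hm
  have := Subgroup.Normal.conj_mem (H := N) inferInstance _ hmN u
  simpa [mul_assoc] using this

/-- A non-trivial normal subgroup has order at least `10 n`. -/
theorem le_card_normal (h : Five H n e) {N : Subgroup H} [N.Normal] (hN : N ≠ ⊥) :
    10 * n ≤ Nat.card N ∧ num N 5 = 4 * n := by
  haveI : Fact (Nat.Prime 5) := ⟨Nat.prime_five⟩
  have hnum : num N 5 = 4 * n := by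
    rw [← h.count]
    exact Nat.card_congr
      { toFun := fun g => ⟨g.1.1, by rw [Subgroup.orderOf_coe]; exact g.2⟩
        invFun := fun g => ⟨⟨g.1, h.mem_of_orderOf_eq_five hN g.2⟩, by
          rw [← Subgroup.orderOf_coe]; exact g.2⟩
        left_inv := fun g => rfl
        right_inv := fun g => rfl }
  refine ⟨?_, hnum⟩
  have hdN := Subgroup.card_subgroup_dvd_card N
  have hv : (Nat.card N).factorization 5 = 1 := le_antisymm
    (factorization_le_of_not_dvd Nat.prime_five Nat.card_pos.ne'
      fun hd => h.dvd_and_not.2 (hd.trans hdN))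
    ((Nat.prime_five.pow_dvd_iff_le_factorization Nat.card_pos.ne').1 (by simpa using h.five_dvd hN))
  have hs : Nat.card (Sylow 5 N) = n := by
    have := num_prime_eq (p := 5) hv
    rw [hnum] at this
    omega
  obtain ⟨P⟩ : Nonempty (Sylow 5 N) := inferInstance
  have hP := card_sylow_eq_prime hv P
  have hmul := SmallSimple.card_sylow_mul_card_normalizer P
  rw [hs] at hmul
  set R := Subgroup.normalizer ((P : Subgroup N) : Set N) with hR
  have h5R : 5 ∣ Nat.card R := hP.symm.dvd.trans (Subgroup.card_dvd_of_le Subgroup.le_normalizer)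
  by_contra hlt
  have hR5 : Nat.card R = 5 := by
    obtain ⟨j, hj⟩ := h5R
    rw [← hmul, hj] at hlt
    have hj0 : j ≠ 0 := fun h0 => Nat.card_pos.ne' (hj.trans (by rw [h0, mul_zero]))
    rcases h.deg with rfl | rfl <;> omega
  have hPR : (P : Subgroup N) = R :=
    Subgroup.eq_of_le_of_card_ge Subgroup.le_normalizer (by rw [hP, hR5])
  haveI : IsMulCommutative (P : Subgroup N) := (isCyclic_of_prime_card hP).isMulCommutative
  have hPC : R ≤ Subgroup.centralizer ((P : Subgroup N) : Set N) :=
    hPR ▸ Subgroup.le_centralizer (P : Subgroup N)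
  set f := MonoidHom.transferSylow P hPC with hf
  have hK : Nat.card f.ker = n := by
    have := (MonoidHom.ker_transferSylow_isComplement' P hPC).card_mul
    rw [← hf, hP, ← hmul, hR5] at this
    omega
  have hn5 : ¬ 5 ∣ n := by rcases h.deg with rfl | rfl <;> norm_num
  have hmem : ∀ g : N, g ∈ f.ker ↔ g ^ n = 1 := by
    refine fun g => ⟨fun hg => ?_, fun hg => ?_⟩
    · have := congrArg Subtype.val (pow_card_eq_one' (x := (⟨g, hg⟩ : f.ker)))
      rw [hK] at this
      simpa using this
    · rw [MonoidHom.mem_ker, ← orderOf_eq_one_iff]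
      have h1 : orderOf (f g) ∣ n := orderOf_dvd_of_pow_eq_one (by rw [← map_pow, hg, map_one])
      have h2 : orderOf (f g) ∣ 5 := by
        have := orderOf_dvd_natCard (f g)
        rwa [hP] at this
      exact ((Nat.dvd_prime Nat.prime_five).1 h2).resolve_right fun e5 => hn5 (e5 ▸ h1)
  let K := f.ker.map N.subtype
  haveI : K.Normal := ⟨by
    rintro _ ⟨k, hk, rfl⟩ u
    refine ⟨⟨u * k * u⁻¹, Subgroup.Normal.conj_mem inferInstance _ k.2 u⟩, (hmem _).2 ?_, rfl⟩
    refine Subtype.ext ?_
    have := congrArg Subtype.val ((hmem k).1 hk)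
    simp only [SubgroupClass.coe_pow, OneMemClass.coe_one] at this ⊢
    rw [conj_pow, this, mul_one, mul_inv_cancel]⟩
  have hKcard : Nat.card K = n := by rw [Subgroup.card_map_of_injective N.subtype_injective, hK]
  have hK1 : K ≠ ⊥ := fun e0 => by
    rw [e0, Subgroup.card_bot] at hKcard
    rcases h.deg with rfl | rfl <;> omega
  exact hn5 (hKcard ▸ h.five_dvd hK1)

theorem noncomm (h : Five H n e) : ¬ IsMulCommutative H := by
  intro hc
  obtain ⟨x, hx⟩ := num_ne_zero_iff.1 (show num H 5 ≠ 0 by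
    rw [h.count]; rcases h.deg with rfl | rfl <;> norm_num)
  have htop : Subgroup.zpowers x = ⊤ := eq_top_iff.2 fun y _ => h.cent x y hx (hc.is_comm.comm x y)
  have := congrArg (fun K : Subgroup H => Nat.card K) htop
  simp only [Nat.card_zpowers, hx, Subgroup.card_top] at this
  rw [h.card] at this
  rcases h.deg with rfl | rfl <;> rcases h.exp with rfl | rfl <;> norm_num at this

theorem nontrivial (h : Five H n e) : Nontrivial H := by
  refine Finite.one_lt_card_iff_nontrivial.1 ?_
  rw [h.card]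
  rcases h.deg with rfl | rfl <;> rcases h.exp with rfl | rfl <;> norm_num

theorem isSimpleGroup (h : Five H n 2) : IsSimpleGroup H := by
  haveI := h.nontrivial
  refine ⟨fun N hN => or_iff_not_imp_left.2 fun hb => Subgroup.eq_top_of_card_eq _ ?_⟩
  haveI := hN
  have := (h.le_card_normal hb).1
  have := Nat.le_of_dvd Nat.card_pos (Subgroup.card_subgroup_dvd_card N)
  rw [h.card] at *
  omega

theorem exists_index_two (h : Five H n 4) :
    ∃ N : Subgroup H, N.Normal ∧ N.index = 2 ∧ Five N n 2 := by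
  haveI := h.nontrivial
  have hns : ¬ IsSimpleGroup H := by
    intro hs
    let _ := Fintype.ofFinite H
    rcases h.deg with rfl | rfl
    · exact SmallCofactor.card_ne_120 h.noncomm (by rw [h.card])
    · exact SmallSimple.Below1092.card_ne_720 h.noncomm (by rw [h.card])
  have : ∃ N : Subgroup H, N.Normal ∧ N ≠ ⊥ ∧ N ≠ ⊤ := by
    by_contra hc
    exact hns ⟨fun N hN => or_iff_not_imp_left.2 fun hb => by_contra fun ht => hc ⟨N, hN, hb, ht⟩⟩
  obtain ⟨N, hN, hb, ht⟩ := this
  obtain ⟨hle, hnum⟩ := h.le_card_normal hb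
  have hmul := Subgroup.card_mul_index N
  have hi : N.index ≠ 1 := fun h1 => ht (Subgroup.index_eq_one.1 h1)
  have hi0 : N.index ≠ 0 := Subgroup.index_ne_zero_of_finite
  have h20 := h.card
  have hi2 : N.index = 2 := by
    by_contra h2
    have h3 : 3 ≤ N.index := by omega
    have := Nat.mul_le_mul hle h3
    rcases h.deg with rfl | rfl <;> omega
  refine ⟨N, hN, hi2, h.deg, Or.inl rfl, by rw [hi2] at hmul; omega, hnum, fun x y hx hc => ?_,
    fun h4 => by norm_num at h4⟩
  obtain ⟨k, hk⟩ := Subgroup.mem_zpowers_iff.1 (h.cent (x : H) y (by rwa [Subgroup.orderOf_coe])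
    (congrArg Subtype.val hc.eq))
  exact Subgroup.mem_zpowers_iff.2 ⟨k, Subtype.ext (by simpa using hk)⟩

/-- There is an element of order 4 outside the subgroup of index 2. -/
theorem exists_four (h : Five H n 4) {N : Subgroup H} (hN : Five N n 2) :
    ∃ y : H, orderOf y = 4 ∧ y ∉ N := by
  haveI : Fact (Nat.Prime 5) := ⟨Nat.prime_five⟩
  haveI : Fact (Nat.Prime 2) := ⟨Nat.prime_two⟩
  obtain ⟨x, hx⟩ := num_ne_zero_iff.1 (show num N 5 ≠ 0 by
    rw [hN.count]; rcases hN.deg with rfl | rfl <;> norm_num)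
  have hx' : orderOf (x : H) = 5 := by rwa [Subgroup.orderOf_coe]
  obtain ⟨P, hP⟩ := SmallSimple.zpowers_eq_sylow (card_sylow_eq_prime h.factorization) hx'
  obtain ⟨P', hP'⟩ := SmallSimple.zpowers_eq_sylow (card_sylow_eq_prime hN.factorization) hx
  have hR : Nat.card (Subgroup.normalizer ((P : Subgroup H) : Set H)) = 20 := by
    have := SmallSimple.card_sylow_mul_card_normalizer P
    rw [h.card_sylow, h.card] at this
    rcases h.deg with rfl | rfl <;> omega
  have hR' : Nat.card (Subgroup.normalizer ((P' : Subgroup N) : Set N)) = 10 := by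
    have := SmallSimple.card_sylow_mul_card_normalizer P'
    rw [hN.card_sylow, hN.card] at this
    rcases h.deg with rfl | rfl <;> omega
  rw [hP] at hR
  rw [hP'] at hR'
  set R := Subgroup.normalizer ((Subgroup.zpowers (x : H) : Subgroup H) : Set H)
  obtain ⟨T, hT⟩ := Sylow.exists_subgroup_card_pow_prime (G := R) 2 (n := 2) (by rw [hR]; norm_num)
  let f : T →* MulAut (Subgroup.zpowers (x : H)) :=
    (Subgroup.normalizerMonoidHom (Subgroup.zpowers (x : H))).comp T.subtype
  have hf : Function.Injective f := (injective_iff_map_eq_one f).2 fun t ht => by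
    have ht' : (t : R) ∈ (Subgroup.normalizerMonoidHom (Subgroup.zpowers (x : H))).ker := ht
    rw [Subgroup.normalizerMonoidHom_ker, Subgroup.mem_subgroupOf] at ht'
    have := h.eq_one_of_centralizer hx' ht' (d := 4) (by norm_num) (by
      have := orderOf_dvd_natCard t
      rw [hT] at this
      rwa [Subgroup.orderOf_coe, Subgroup.orderOf_coe])
    exact Subtype.ext (Subtype.ext this)
  haveI : IsCyclic (MulAut (Subgroup.zpowers (x : H))) := by
    have e := IsCyclic.mulAutMulEquiv (Subgroup.zpowers (x : H))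
    rw [Nat.card_zpowers, hx'] at e
    exact isCyclic_of_surjective e.symm.toMonoidHom e.symm.surjective
  haveI : IsCyclic T := isCyclic_of_injective f hf
  obtain ⟨g, hg⟩ := IsCyclic.exists_generator (α := T)
  have hg4 : orderOf g = 4 := by rw [orderOf_eq_card_of_forall_mem_zpowers hg, hT]; norm_num
  rw [← Subgroup.orderOf_coe, ← Subgroup.orderOf_coe] at hg4
  refine ⟨((g : R) : H), hg4, fun hyN => ?_⟩
  have key : ∀ z : N, z ∈ Subgroup.zpowers x ↔ (z : H) ∈ Subgroup.zpowers (x : H) := fun z => by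
    rw [Subgroup.mem_zpowers_iff, Subgroup.mem_zpowers_iff]
    exact exists_congr fun k => ⟨fun e => by rw [← e]; simp, fun e => Subtype.ext (by simpa using e)⟩
  have hmem : (⟨_, hyN⟩ : N) ∈ Subgroup.normalizer ((Subgroup.zpowers x : Subgroup N) : Set N) := by
    rw [Subgroup.mem_normalizer_iff]
    intro z
    rw [key, key]
    exact Subgroup.mem_normalizer_iff.1 (g : R).2 (z : H)
  have := orderOf_dvd_natCard (⟨_, hmem⟩ : Subgroup.normalizer _)
  rw [hR', ← Subgroup.orderOf_coe, ← Subgroup.orderOf_coe] at this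
  change orderOf ((g : R) : H) ∣ 10 at this
  rw [hg4] at this
  norm_num at this

/-- Elements of order 4: those of the subgroup of index 2 and a non-zero multiple of `d`. -/
theorem num_four (h : Five H n 4) {N : Subgroup H} [N.Normal] (hi : N.index = 2) (hN : Five N n 2)
    (h6 : num N 6 = 0) {d : ℕ} (hd45 : d ∣ 45) (hd : d ∣ Nat.card H) :
    ∃ k, 0 < k ∧ d ∣ k ∧ num H 4 = num N 4 + k := by
  classical
  haveI : Fact (Nat.Prime 3) := ⟨Nat.prime_three⟩
  haveI : Fact (Nat.Prime 5) := ⟨Nat.prime_five⟩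
  let _ := Fintype.ofFinite H
  set O := Finset.univ.filter fun u : H => orderOf u = 4 ∧ u ∉ N with hO
  obtain ⟨y, hy⟩ := h.exists_four hN
  refine ⟨O.card, Finset.card_pos.2 ⟨y, by simp [hO, hy]⟩, ?_, ?_⟩
  · have hsum := S4212.dvd_sum_classFun d (fun u : H => if orderOf u = 4 ∧ u ∉ N then 1 else 0) ?_ ?_
    · rwa [Finset.sum_boole, Nat.cast_id] at hsum
    · intro u v huv
      obtain ⟨c, rfl⟩ := isConj_iff.1 huv
      have e1 : orderOf (c * u * c⁻¹) = orderOf u := by rw [← MulAut.conj_apply, MulEquiv.orderOf_eq]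
      have e2 : c * u * c⁻¹ ∈ N ↔ u ∈ N := by
        refine ⟨fun hm => ?_, fun hm => Subgroup.Normal.conj_mem inferInstance u hm c⟩
        have := Subgroup.Normal.conj_mem (H := N) inferInstance _ hm c⁻¹
        simpa [mul_assoc] using this
      simp only [e1, e2]
    intro u
    by_cases hu : orderOf u = 4 ∧ u ∉ N
    swap
    · simp [hu]
    rw [if_pos hu, mul_one]
    set C := Subgroup.centralizer ({u} : Set H)
    have hnot : ∀ p, p = 3 ∨ p = 5 → ¬ p ∣ Nat.card C := by
      intro p hp hdvd
      rcases hp with rfl | rfl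
      · obtain ⟨c, hc⟩ := exists_prime_orderOf_dvd_card' (G := C) 3 hdvd
        rw [← Subgroup.orderOf_coe] at hc
        have hcu : Commute (u ^ 2) (c : H) :=
          ((show Commute (c : H) u from Subgroup.mem_centralizer_singleton_iff.1 c.2).symm).pow_left 2
        have ho2 : orderOf (u ^ 2) = 2 := by
          rw [orderOf_pow' u (by norm_num : (2 : ℕ) ≠ 0), hu.1]; rfl
        have ho6 : orderOf (u ^ 2 * (c : H)) = 6 := by
          rw [hcu.orderOf_mul_eq_mul_orderOf_of_coprime (by rw [ho2, hc]; norm_num), ho2, hc]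
        have hcN : (c : H) ∈ N := by
          have := Subgroup.sq_mem_of_index_two hi ((c : H) ^ 2)
          rwa [← pow_mul, ← pow_mod_orderOf, hc, show (2 * 2) % 3 = 1 from rfl, pow_one] at this
        have hm : u ^ 2 * (c : H) ∈ N := mul_mem (Subgroup.sq_mem_of_index_two hi u) hcN
        exact num_eq_zero_iff.1 h6 ⟨_, hm⟩ (by rw [← Subgroup.orderOf_coe]; exact ho6)
      · obtain ⟨c, hc⟩ := exists_prime_orderOf_dvd_card' (G := C) 5 hdvd
        rw [← Subgroup.orderOf_coe] at hc
        have := orderOf_dvd_of_mem_zpowers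
          (h.cent _ u hc (Subgroup.mem_centralizer_singleton_iff.1 c.2))
        rw [hu.1, hc] at this
        norm_num at this
    have hcop : Nat.Coprime d (Nat.card C) := by
      refine Nat.Coprime.coprime_dvd_left hd45 ?_
      exact Nat.Coprime.mul_left (Nat.Coprime.pow_left 2
        (Nat.prime_three.coprime_iff_not_dvd.2 (hnot 3 (Or.inl rfl))))
        (Nat.prime_five.coprime_iff_not_dvd.2 (hnot 5 (Or.inr rfl)))
    exact hcop.dvd_of_dvd_mul_right ((Subgroup.index_mul_card C).symm ▸ hd)
  · have e : num N 4 = (Finset.univ.filter fun u : H => orderOf u = 4 ∧ u ∈ N).card := by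
      rw [← Fintype.card_subtype, ← Nat.card_eq_fintype_card]
      exact Nat.card_congr
        { toFun := fun g => ⟨g.1.1, by rw [Subgroup.orderOf_coe]; exact g.2, g.1.2⟩
          invFun := fun g => ⟨⟨g.1, g.2.2⟩, by rw [← Subgroup.orderOf_coe]; exact g.2.1⟩
          left_inv := fun g => rfl
          right_inv := fun g => rfl }
    rw [e, num, Nat.card_eq_fintype_card, Fintype.card_subtype, hO, ← Finset.filter_filter,
      ← Finset.filter_filter]
    exact (Finset.card_filter_add_card_filter_not (fun u : H => u ∈ N)).symm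

end Five

end Cfsg.Agent.OrderCounts
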