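import Cfsg.Agent.Lib.OrderCounts.SmallAlternatingData
import Cfsg.Agent.Lib.OrderCounts.FiveStructure
import Cfsg.Agent.Lib.SmallSimple.Order360
import Cfsg.Agent.Lib.TwentyTwo.Small

/-!
# The alternating groups of degree 4, 5, 6 are recognised by their sets of order-class sizes
-/

set_option autoImplicit false
set_option linter.style.haveILetI false
set_option linter.unusedSectionVars false

namespace Cfsg.Agent.OrderCounts

open scoped Pointwise

/-- `S` is the set of the non-zero numbers of elements of given order. -/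
structure Vals (G : Type*) [Group G] (S : Finset ℕ) : Prop where
  mem : ∀ m, num G m ≠ 0 → num G m ∈ S
  attained : ∀ v ∈ S, ∃ m, num G m ≠ 0 ∧ num G m = v

variable {G : Type*} [Group G] [Finite G]

theorem vals_of_eq {A : Type*} [Group A] [Finite A]
    (h : (fun m : ℕ => num G m) '' Set.range (orderOf : G → ℕ) =
      (fun m : ℕ => num A m) '' Set.range (orderOf : A → ℕ))
    (M : Finset ℕ) (hM : ∀ g : A, orderOf g ∈ M) (hne : ∀ m ∈ M, num A m ≠ 0) :
    Vals G (M.image (num A)) := by
  refine ⟨fun m hm => ?_, fun v hv => ?_⟩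
  · have : num G m ∈ (fun k : ℕ => num G k) '' Set.range (orderOf : G → ℕ) :=
      ⟨m, num_ne_zero_iff.1 hm, rfl⟩
    rw [h] at this
    obtain ⟨k, ⟨g, rfl⟩, hk⟩ := this
    exact Finset.mem_image.2 ⟨_, hM g, hk⟩
  · obtain ⟨k, hk, rfl⟩ := Finset.mem_image.1 hv
    have : num A k ∈ (fun k : ℕ => num G k) '' Set.range (orderOf : G → ℕ) := by
      rw [h]
      exact ⟨k, num_ne_zero_iff.1 (hne k hk), rfl⟩
    obtain ⟨m, hm, e⟩ := this
    exact ⟨m, num_ne_zero_iff.2 hm, e⟩

namespace Vals

variable {S : Finset ℕ}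

theorem opts (h : Vals G S) {m : ℕ} (hm : 2 < m) {T : Finset ℕ}
    (hT : (insert 0 S).filter (fun v => m.totient ∣ v ∧ 2 ∣ v) = T) : num G m ∈ T := by
  rw [← hT, Finset.mem_filter, Finset.mem_insert]
  exact ⟨(eq_or_ne (num G m) 0).imp_right (h.mem m), totient_dvd_num m, two_dvd_num hm⟩

theorem num_two (h : Vals G S) {o : ℕ} (ho : o ∈ S) (hodd : ¬ 2 ∣ o) (h1 : o ≠ 1) :
    num G 2 = o := by
  obtain ⟨m, hm0, rfl⟩ := h.attained o ho
  rcases Nat.lt_or_ge 2 m with hm | hm
  · exact absurd (two_dvd_num hm) hodd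
  interval_cases m
  · exact absurd (num_eq_zero_iff.2 fun g => (orderOf_pos g).ne') hm0
  · exact absurd num_one h1
  · rfl

theorem sum_le_card (h : Vals G S) : ∑ v ∈ S, v ≤ Nat.card G := by
  classical
  choose f hf0 hf using h.attained
  let M := S.attach.image fun v => f v.1 v.2
  have hinj : ∀ a ∈ S.attach, ∀ b ∈ S.attach, f a.1 a.2 = f b.1 b.2 → a = b := by
    intro a _ b _ e
    apply Subtype.ext
    have := hf a.1 a.2
    rw [e, hf b.1 b.2] at this
    exact this.symm
  calc ∑ v ∈ S, v = ∑ v ∈ S.attach, num G (f v.1 v.2) := by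
        rw [← Finset.sum_attach]
        exact Finset.sum_congr rfl fun v _ => (hf v.1 v.2).symm
    _ = ∑ m ∈ M, num G m := (Finset.sum_image hinj).symm
    _ ≤ ∑ m ∈ (Nat.card G).divisors, num G m := Finset.sum_le_sum_of_subset fun m hm => by
        obtain ⟨v, -, rfl⟩ := Finset.mem_image.1 hm
        obtain ⟨g, hg⟩ := num_ne_zero_iff.1 (hf0 v.1 v.2)
        exact Nat.mem_divisors.2 ⟨hg ▸ orderOf_dvd_natCard g, Nat.card_pos.ne'⟩
    _ ≤ Nat.card G := sum_le Nat.card_pos.ne'

theorem prime_props (h : Vals G S) {p : ℕ} (hp : p.Prime) (hp2 : p ≠ 2) (hpG : p ∣ Nat.card G) :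
    num G p ∈ S ∧ 2 ∣ num G p ∧ p - 1 ∣ num G p ∧ p ∈ (1 + num G p).divisors := by
  refine ⟨h.mem p (num_prime_ne_zero hp hpG), two_dvd_num (lt_of_le_of_ne hp.two_le hp2.symm),
    Nat.totient_prime hp ▸ totient_dvd_num p, Nat.mem_divisors.2 ⟨?_, by omega⟩⟩
  have := dvd_sum hpG
  rwa [hp.divisors, Finset.sum_pair hp.one_lt.ne, num_one] at this

end Vals

theorem factorization_eq_one {p : ℕ} (hp : p.Prime) (h : p ∣ Nat.card G) (h2 : ¬ p ^ 2 ∣ Nat.card G) :
    (Nat.card G).factorization p = 1 :=
  le_antisymm (factorization_le_of_not_dvd hp Nat.card_pos.ne' h2)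
    ((hp.pow_dvd_iff_le_factorization Nat.card_pos.ne').1 (by rwa [pow_one]))

theorem card_sylow_dvd {p : ℕ} [Fact p.Prime] : Nat.card (Sylow p G) ∣ Nat.card G := by
  obtain ⟨P⟩ : Nonempty (Sylow p G) := inferInstance
  exact ⟨_, (SmallSimple.card_sylow_mul_card_normalizer P).symm⟩

/-- Counts that force the data `Five`. -/
theorem exists_five {n : ℕ} (hn : n = 6 ∨ n = 36) (hv : (Nat.card G).factorization 5 = 1)
    (hc : num G 5 = 4 * n) (hb : ∀ q, q.Prime → q ≠ 5 → num G (5 * q) < 2 * num G 5)
    (h2 : num G 2 % 5 = 0) (hinv : n = 36 → num G 2 = 45) (hcard : 10 * n ≤ Nat.card G) :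
    ∃ e, Five G n e := by
  haveI : Fact (Nat.Prime 5) := ⟨Nat.prime_five⟩
  have hP5 : ∀ P : Sylow 5 G,
      Subgroup.centralizer ((P : Subgroup G) : Set G) = (P : Subgroup G) := by
    intro P
    have hP := card_sylow_eq_prime hv P
    haveI : IsMulCommutative (P : Subgroup G) := (isCyclic_of_prime_card hP).isMulCommutative
    set C := Subgroup.centralizer ((P : Subgroup G) : Set G)
    have hq : ∀ q, q.Prime → q ∣ Nat.card C → q = 5 := by
      intro q hq hd
      by_contra hq5
      haveI := Fact.mk hq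
      obtain ⟨c, hc'⟩ := exists_prime_orderOf_dvd_card' (G := C) q hd
      rw [← Subgroup.orderOf_coe] at hc'
      have huniq : ∀ y ∈ C, orderOf y = q → y = c := fun y hy hyq =>
        eq_of_mem_centralizer hv P hq hq5 (hb q hq hq5) hyq hc' hy c.2
      rcases eq_or_ne q 2 with rfl | hq2
      · have := conj_num_modEq P.isPGroup' 2
        rw [show Nat.card {s : {g : G // orderOf g = 2} // s.1 ∈ C} = 1 from
          Nat.card_eq_one_iff_unique.2 ⟨⟨fun a b => Subtype.ext (Subtype.ext
            ((huniq _ a.2 a.1.2).trans (huniq _ b.2 b.1.2).symm))⟩, ⟨⟨⟨c, hc'⟩, c.2⟩⟩⟩] at this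
        rw [Nat.ModEq, h2] at this
        norm_num at this
      · have e := huniq _ (inv_mem c.2) (by rw [orderOf_inv, hc'])
        have : (c : G) ^ 2 = 1 := by rw [pow_two]; exact inv_eq_iff_mul_eq_one.1 e
        have := orderOf_dvd_of_pow_eq_one this
        rw [hc'] at this
        exact hq2 ((Nat.prime_dvd_prime_iff_eq hq Nat.prime_two).1 this)
    have hpow := Nat.eq_prime_pow_of_unique_prime_dvd (n := Nat.card C) (p := 5) Nat.card_pos.ne'
      fun {q} hqp hd => hq q hqp hd
    have hk : (Nat.card C).primeFactorsList.length ≤ 1 := by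
      rw [← hv]
      exact (Nat.prime_five.pow_dvd_iff_le_factorization Nat.card_pos.ne').1
        (hpow ▸ Subgroup.card_subgroup_dvd_card C)
    refine (Subgroup.eq_of_le_of_card_ge (Subgroup.le_centralizer (P : Subgroup G)) ?_).symm
    rw [hP, hpow]
    exact (pow_le_pow_right₀ (by norm_num) hk).trans (by norm_num)
  have hcent : ∀ x y : G, orderOf x = 5 → Commute x y → y ∈ Subgroup.zpowers x := by
    intro x y hx hxy
    obtain ⟨P, hP⟩ := SmallSimple.zpowers_eq_sylow (card_sylow_eq_prime hv) hx
    rw [← hP, ← hP5 P, hP, Subgroup.mem_centralizer_iff]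
    rintro _ ⟨k, rfl⟩
    exact (hxy.zpow_left k).eq
  have hs : Nat.card (Sylow 5 G) = n := by
    have := num_prime_eq (p := 5) hv
    rw [hc] at this
    omega
  obtain ⟨P⟩ : Nonempty (Sylow 5 G) := inferInstance
  have hmul := SmallSimple.card_sylow_mul_card_normalizer P
  rw [hs] at hmul
  haveI : IsCyclic (P : Subgroup G) := isCyclic_of_prime_card (card_sylow_eq_prime hv P)
  have hr := TwentyTwo.relIndex_centralizer_dvd (P : Subgroup G)
  rw [card_sylow_eq_prime hv P, Nat.totient_prime Nat.prime_five] at hr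
  have hN := Subgroup.relIndex_mul_relIndex (H := ⊥)
    (K := Subgroup.centralizer ((P : Subgroup G) : Set G))
    (L := Subgroup.normalizer ((P : Subgroup G) : Set G)) bot_le
    (Subgroup.centralizer_le_normalizer _)
  rw [Subgroup.relIndex_bot_left, Subgroup.relIndex_bot_left] at hN
  generalize (Subgroup.centralizer ((P : Subgroup G) : Set G)).relIndex
    (Subgroup.normalizer ((P : Subgroup G) : Set G)) = r at hr hN
  rw [hP5 P, card_sylow_eq_prime hv P] at hN
  have hcard' : Nat.card G = 5 * n * r := by rw [← hmul, ← hN]; ring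
  have hr2 : r = 2 ∨ r = 4 := by
    have hle := Nat.le_of_dvd (by norm_num) hr
    have h10 : 2 ≤ r := by
      by_contra hlt
      interval_cases r <;> rcases hn with rfl | rfl <;> omega
    interval_cases r
    · exact Or.inl rfl
    · norm_num at hr
    · exact Or.inr rfl
  exact ⟨r, hn, hr2, hcard', hc, hcent, fun _ => hinv⟩

/-- `A_4`. -/
theorem iso_four (h : Vals G {1, 3, 8}) : Nonempty (G ≃* alternatingGroup (Fin 4)) := by
  classical
  haveI : Fact (Nat.Prime 2) := ⟨Nat.prime_two⟩
  haveI : Fact (Nat.Prime 3) := ⟨Nat.prime_three⟩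
  have hn2 : num G 2 = 3 := h.num_two (by decide) (by decide) (by norm_num)
  have h2G : 2 ∣ Nat.card G := by
    obtain ⟨g, hg⟩ := num_ne_zero_iff.1 (show num G 2 ≠ 0 by omega)
    exact hg ▸ orderOf_dvd_natCard g
  have hge : 12 ≤ Nat.card G := le_trans (by decide) h.sum_le_card
  have h8 : ¬ 2 ^ 3 ∣ Nat.card G := fun hd => by
    have hs := dvd_sum hd
    have h4 := h.opts (m := 4) (T := {0, 8}) (by norm_num) (by decide +kernel)
    have h8 := h.opts (m := 8) (T := {0, 8}) (by norm_num) (by decide +kernel)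
    rw [show (2 ^ 3 : ℕ).divisors = {1, 2, 4, 8} by decide] at hs
    simp [num_one, hn2] at hs h4 h8
    omega
  have hprimes : ∀ p, p.Prime → p ∣ Nat.card G → p = 2 ∨ p = 3 ∨ p = 5 := by
    intro p hp hd
    rcases eq_or_ne p 2 with rfl | hp2
    · exact Or.inl rfl
    obtain ⟨hv, he, hd1, hdiv⟩ := h.prime_props hp hp2 hd
    simp only [Finset.mem_insert, Finset.mem_singleton] at hv
    rcases hv with e | e | e <;> rw [e] at he hd1 hdiv <;> try omega
    rw [show (1 + 8 : ℕ).divisors = {1, 3, 9} by decide] at hdiv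
    simp only [Finset.mem_insert, Finset.mem_singleton] at hdiv
    rcases hdiv with rfl | rfl | rfl <;>
      first | exact Or.inr (Or.inl rfl) | (norm_num at hp; done)
  have h5G : ¬ 5 ∣ Nat.card G := fun hd => by
    obtain ⟨hv, he, -, hdiv⟩ := h.prime_props Nat.prime_five (by norm_num) hd
    simp only [Finset.mem_insert, Finset.mem_singleton] at hv
    rcases hv with e | e | e <;> rw [e] at he hdiv <;> revert he hdiv <;> decide
  have h9 : num G 9 = 0 := by
    simpa using h.opts (m := 9) (T := {0}) (by norm_num) (by decide +kernel)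
  have hn3 : ∀ (_ : 3 ∣ Nat.card G), num G 3 = 8 := fun hd => by
    have h3 := h.opts (m := 3) (T := {0, 8}) (by norm_num) (by decide +kernel)
    have := num_prime_ne_zero Nat.prime_three hd
    simp at h3
    omega
  have h27 : ¬ 3 ^ 3 ∣ Nat.card G := fun hd => by
    have hs := dvd_sum hd
    have h27 := h.opts (m := 27) (T := {0}) (by norm_num) (by decide +kernel)
    rw [show (3 ^ 3 : ℕ).divisors = {1, 3, 9, 27} by decide] at hs
    simp [num_one, h9, hn3 ((dvd_pow_self 3 (by norm_num)).trans hd)] at hs h27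
    omega
  have h36 : Nat.card G ∣ 36 := dvd_two_three_five Nat.card_pos.ne' hprimes
    (factorization_le_of_not_dvd Nat.prime_two Nat.card_pos.ne' h8)
    (factorization_le_of_not_dvd Nat.prime_three Nat.card_pos.ne' h27)
    (le_of_eq (Nat.factorization_eq_zero_of_not_dvd h5G) : _ ≤ 0)
  have hcases : Nat.card G = 12 ∨ 9 ∣ Nat.card G := by
    have key : ∀ d ∈ (36 : ℕ).divisors, 12 ≤ d → 2 ∣ d → d = 12 ∨ 9 ∣ d := by decide +kernel
    exact key _ (Nat.mem_divisors.2 ⟨h36, by norm_num⟩) hge h2G
  rcases hcases with h12 | hd9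
  swap
  · exfalso
    have h3G : 3 ∣ Nat.card G := dvd_trans (by norm_num) hd9
    have h6 : num G 6 = 0 := by
      have hs := dvd_sum (n := 6)
        (show 2 * 3 ∣ Nat.card G from Nat.Coprime.mul_dvd_of_dvd_of_dvd (by norm_num) h2G h3G)
      have h6 := h.opts (m := 6) (T := {0, 8}) (by norm_num) (by decide +kernel)
      rw [show (6 : ℕ).divisors = {1, 2, 3, 6} by decide] at hs
      simp [num_one, hn2, hn3 h3G] at hs h6
      omega
    obtain ⟨P⟩ : Nonempty (Sylow 3 G) := inferInstance
    have hP : Nat.card (P : Subgroup G) = 9 := by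
      rw [P.card_eq_multiplicity, le_antisymm
        (factorization_le_of_not_dvd Nat.prime_three Nat.card_pos.ne' h27)
        ((Nat.prime_three.pow_dvd_iff_le_factorization Nat.card_pos.ne').1
          (show 3 ^ 2 ∣ Nat.card G from hd9))]
      norm_num
    obtain ⟨t, ht⟩ := num_ne_zero_iff.1 (show num G 2 ≠ 0 by omega)
    have hinj : Function.Injective (fun x : (P : Subgroup G) =>
        (⟨(x : G) * t * (x : G)⁻¹, by rw [← MulAut.conj_apply, MulEquiv.orderOf_eq, ht]⟩ :
          {g : G // orderOf g = 2})) := by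
      intro x y hxy
      have e : (x : G) * t * (x : G)⁻¹ = (y : G) * t * (y : G)⁻¹ := congrArg Subtype.val hxy
      set c : G := (y : G)⁻¹ * x with hc
      have hct : Commute c t := by
        show c * t = t * c
        rw [hc]
        calc (y : G)⁻¹ * x * t = (y : G)⁻¹ * ((x : G) * t * (x : G)⁻¹) * x := by group
          _ = (y : G)⁻¹ * ((y : G) * t * (y : G)⁻¹) * x := by rw [e]
          _ = t * ((y : G)⁻¹ * x) := by group
      have hc9 : orderOf c ∣ 9 := by
        have := orderOf_dvd_natCard (⟨c, mul_mem (inv_mem y.2) x.2⟩ : (P : Subgroup G))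
        rwa [hP, ← Subgroup.orderOf_coe] at this
      have hmem := Nat.mem_divisors.2 ⟨hc9, (by norm_num : (9 : ℕ) ≠ 0)⟩
      rw [show (9 : ℕ).divisors = {1, 3, 9} by decide] at hmem
      simp only [Finset.mem_insert, Finset.mem_singleton] at hmem
      rcases hmem with e1 | e3 | e9
      · rw [orderOf_eq_one_iff, hc, inv_mul_eq_one] at e1
        exact Subtype.ext e1.symm
      · refine absurd ?_ (num_eq_zero_iff.1 h6 (c * t))
        rw [hct.orderOf_mul_eq_mul_orderOf_of_coprime (by rw [e3, ht]; norm_num), e3, ht]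
      · exact absurd e9 (num_eq_zero_iff.1 h9 c)
    have hle : Nat.card (P : Subgroup G) ≤ num G 2 := Nat.card_le_card_of_injective _ hinj
    omega
  have hv : (Nat.card G).factorization 3 = 1 :=
    factorization_eq_one Nat.prime_three (by rw [h12]; norm_num) (by rw [h12]; norm_num)
  have hs : Nat.card (Sylow 3 G) = 4 := by
    have := num_prime_eq (p := 3) hv
    rw [hn3 (by rw [h12]; norm_num)] at this
    omega
  have hnorm : ∀ P : Sylow 3 G,
      Subgroup.normalizer ((P : Subgroup G) : Set G) = (P : Subgroup G) := fun P => by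
    refine (Subgroup.eq_of_le_of_card_ge Subgroup.le_normalizer ?_).symm
    have := SmallSimple.card_sylow_mul_card_normalizer P
    rw [hs, h12] at this
    rw [card_sylow_eq_prime hv P]
    omega
  let e : Sylow 3 G ≃ Fin 4 := Finite.equivFinOfCardEq hs
  let f : G →* Equiv.Perm (Fin 4) :=
    (Equiv.permCongrHom e).toMonoidHom.comp (MulAction.toPermHom G (Sylow 3 G))
  have hf : Function.Injective f := (injective_iff_map_eq_one f).2 fun g hg => by
    have hg' : MulAction.toPermHom G (Sylow 3 G) g = 1 :=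
      (Equiv.permCongrHom e).injective (hg.trans (map_one _).symm)
    have hall : ∀ P : Sylow 3 G, g ∈ (P : Subgroup G) := fun P => by
      rw [← hnorm P]
      refine Sylow.smul_eq_iff_mem_normalizer.1 ?_
      exact congrArg (fun σ : Equiv.Perm (Sylow 3 G) => σ P) hg'
    haveI : Nontrivial (Sylow 3 G) := Finite.one_lt_card_iff_nontrivial.1 (by rw [hs]; norm_num)
    obtain ⟨P, Q, hPQ⟩ := exists_pair_ne (Sylow 3 G)
    by_contra hg1
    have hz : ∀ R : Sylow 3 G, Subgroup.zpowers g = (R : Subgroup G) := fun R => by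
      refine Subgroup.eq_of_le_of_card_ge (Subgroup.zpowers_le.2 (hall R)) ?_
      rw [card_sylow_eq_prime hv R, Nat.card_zpowers]
      have hd := orderOf_dvd_natCard (⟨g, hall R⟩ : (R : Subgroup G))
      rw [card_sylow_eq_prime hv R, ← Subgroup.orderOf_coe] at hd
      rcases (Nat.dvd_prime Nat.prime_three).1 hd with e1 | e3
      · exact absurd (orderOf_eq_one_iff.1 e1) hg1
      · exact e3.ge
    exact hPQ (Sylow.ext ((hz P).symm.trans (hz Q)))
  have hrange : f.range.index = 2 := by
    have h1 := Subgroup.card_mul_index f.range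
    rw [← Nat.card_congr (MonoidHom.ofInjective hf).toEquiv, h12, Nat.card_perm, Nat.card_fin] at h1
    norm_num [Nat.factorial] at h1
    omega
  exact ⟨(MonoidHom.ofInjective hf).trans
    (MulEquiv.subgroupCongr (Equiv.Perm.eq_alternatingGroup_of_index_eq_two hrange))⟩

/-- `A_5`. -/
theorem iso_five (h : Vals G {1, 15, 20, 24}) : Nonempty (G ≃* alternatingGroup (Fin 5)) := by
  classical
  haveI : Fact (Nat.Prime 3) := ⟨Nat.prime_three⟩
  haveI : Fact (Nat.Prime 5) := ⟨Nat.prime_five⟩
  have hn2 : num G 2 = 15 := h.num_two (by decide) (by decide) (by norm_num)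
  have h2G : 2 ∣ Nat.card G := by
    obtain ⟨g, hg⟩ := num_ne_zero_iff.1 (show num G 2 ≠ 0 by omega)
    exact hg ▸ orderOf_dvd_natCard g
  have hge : 60 ≤ Nat.card G := le_trans (by decide) h.sum_le_card
  have hprime : ∀ p, p.Prime → p ≠ 2 → p ∣ Nat.card G →
      (p = 3 ∧ num G p = 20) ∨ (p = 5 ∧ num G p = 24) := by
    intro p hp hp2 hd
    obtain ⟨hv, he, hd1, hdiv⟩ := h.prime_props hp hp2 hd
    simp only [Finset.mem_insert, Finset.mem_singleton] at hv
    rcases hv with e | e | e | e <;> rw [e] at he hd1 hdiv <;> try omega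
    · rw [show (1 + 20 : ℕ).divisors = {1, 3, 7, 21} by decide] at hdiv
      simp only [Finset.mem_insert, Finset.mem_singleton] at hdiv
      rcases hdiv with rfl | rfl | rfl | rfl <;>
        first
        | exact Or.inl ⟨rfl, e⟩
        | exact Or.inr (Or.inl ⟨rfl, e⟩)
        | exact Or.inr (Or.inr ⟨rfl, e⟩)
        | exact Or.inr ⟨rfl, e⟩
        | (norm_num at hp; done)
        | (norm_num at hd1; done)
    · rw [show (1 + 24 : ℕ).divisors = {1, 5, 25} by decide] at hdiv
      simp only [Finset.mem_insert, Finset.mem_singleton] at hdiv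
      rcases hdiv with rfl | rfl | rfl <;>
        first
        | exact Or.inl ⟨rfl, e⟩
        | exact Or.inr (Or.inl ⟨rfl, e⟩)
        | exact Or.inr (Or.inr ⟨rfl, e⟩)
        | exact Or.inr ⟨rfl, e⟩
        | (norm_num at hp; done)
        | (norm_num at hd1; done)
  have hn3 : 3 ∣ Nat.card G → num G 3 = 20 := fun hd => by
    rcases hprime 3 Nat.prime_three (by norm_num) hd with ⟨-, e⟩ | ⟨e, -⟩
    · exact e
    · omega
  have hn5 : 5 ∣ Nat.card G → num G 5 = 24 := fun hd => by
    rcases hprime 5 Nat.prime_five (by norm_num) hd with ⟨e, -⟩ | ⟨-, e⟩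
    · omega
    · exact e
  have hodd : 3 ∣ Nat.card G ∨ 5 ∣ Nat.card G := by
    by_contra hc
    have hpow := Nat.eq_prime_pow_of_unique_prime_dvd (n := Nat.card G) (p := 2) Nat.card_pos.ne'
      fun {q} hq hd => by
        by_contra hq2
        rcases hprime q hq hq2 hd with ⟨rfl, -⟩ | ⟨rfl, -⟩
        · exact hc (Or.inl hd)
        · exact hc (Or.inr hd)
    have hord : ∀ m, num G m ≠ 0 → m ∈ ({1, 2, 4, 8, 16} : Finset ℕ) := by
      intro m hm
      obtain ⟨g, hg⟩ := num_ne_zero_iff.1 hm
      have hd : m ∣ 2 ^ (Nat.card G).primeFactorsList.length := hpow ▸ hg ▸ orderOf_dvd_natCard g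
      obtain ⟨i, -, rfl⟩ := (Nat.dvd_prime_pow Nat.prime_two).1 hd
      rcases Nat.lt_or_ge i 5 with hi | hi
      · interval_cases i <;> decide
      · exfalso
        have ht := totient_dvd_num (G := G) (2 ^ i)
        rw [Nat.totient_prime_pow Nat.prime_two (by omega)] at ht
        have h16 : 16 ∣ num G (2 ^ i) :=
          ((pow_dvd_pow 2 (show 4 ≤ i - 1 by omega)).mul_right 1).trans ht
        have hmem := h.mem _ hm
        simp only [Finset.mem_insert, Finset.mem_singleton] at hmem
        omega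
    have hsum : ∑ d ∈ (16 : ℕ).divisors, num G d = Nat.card G := by
      rw [sum_eq (by norm_num)]
      refine Nat.card_congr (Equiv.subtypeUnivEquiv fun g => orderOf_dvd_iff_pow_eq_one.1 ?_)
      have := hord _ (num_ne_zero_iff.2 ⟨g, rfl⟩)
      simp only [Finset.mem_insert, Finset.mem_singleton] at this
      rcases this with e | e | e | e | e <;> rw [e] <;> norm_num
    have h4 := h.opts (m := 4) (T := {0, 20, 24}) (by norm_num) (by decide +kernel)
    have h8 := h.opts (m := 8) (T := {0, 20, 24}) (by norm_num) (by decide +kernel)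
    have h16 := h.opts (m := 16) (T := {0, 24}) (by norm_num) (by decide +kernel)
    rw [show (16 : ℕ).divisors = {1, 2, 4, 8, 16} by decide] at hsum
    simp [num_one, hn2] at hsum h4 h8 h16
    obtain ⟨a, ha0, ha⟩ := h.attained 20 (by decide)
    obtain ⟨b, hb0, hb⟩ := h.attained 24 (by decide)
    have hal := hord a ha0
    have hbl := hord b hb0
    have hlt : 2 ^ (Nat.card G).primeFactorsList.length < 2 ^ 7 := by rw [← hpow]; omega
    have hlt' := (Nat.pow_lt_pow_iff_right (by norm_num : 1 < 2)).1 hlt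
    simp only [Finset.mem_insert, Finset.mem_singleton] at hal hbl
    have hn1 : num G 1 = 1 := num_one
    interval_cases (Nat.card G).primeFactorsList.length <;>
      rcases hal with rfl | rfl | rfl | rfl | rfl <;>
      rcases hbl with rfl | rfl | rfl | rfl | rfl <;> omega
  have h3sq : ¬ 3 ^ 2 ∣ Nat.card G := fun hd => by
    have h3G : 3 ∣ Nat.card G := (dvd_pow_self 3 (by norm_num)).trans hd
    have h9 := h.opts (m := 9) (T := {0, 24}) (by norm_num) (by decide +kernel)
    have hle : (Nat.card G).factorization 3 ≤ 2 := by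
      refine factorization_le_of_not_dvd Nat.prime_three Nat.card_pos.ne' fun hd3 => ?_
      have hs := dvd_sum hd3
      have h27 := h.opts (m := 27) (T := {0}) (by norm_num) (by decide +kernel)
      rw [show (3 ^ (2 + 1) : ℕ).divisors = {1, 3, 9, 27} by decide] at hs
      simp [num_one, hn3 h3G] at hs h9 h27
      omega
    have hv : (Nat.card G).factorization 3 = 2 := le_antisymm hle
      ((Nat.prime_three.pow_dvd_iff_le_factorization Nat.card_pos.ne').1 hd)
    have hs := dvd_sum hd
    rw [show (3 ^ 2 : ℕ).divisors = {1, 3, 9} by decide] at hs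
    simp [num_one, hn3 h3G] at hs h9
    have hroot := mul_num_le_num_sq hv
    norm_num [hn3 h3G] at hroot
    omega
  have h5G : 5 ∣ Nat.card G := by
    rcases hodd with h3G | h5G
    · have hv := factorization_eq_one Nat.prime_three h3G h3sq
      have := num_prime_eq (p := 3) hv
      rw [hn3 h3G] at this
      have h10 := card_sylow_dvd (G := G) (p := 3)
      rw [show Nat.card (Sylow 3 G) = 10 by omega] at h10
      exact dvd_trans (by norm_num) h10
    · exact h5G
  have h5sq : ¬ 5 ^ 2 ∣ Nat.card G := fun hd => by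
    have hs := dvd_sum hd
    have h25 := h.opts (m := 25) (T := {0, 20}) (by norm_num) (by decide +kernel)
    rw [show (5 ^ 2 : ℕ).divisors = {1, 5, 25} by decide] at hs
    simp [num_one, hn5 h5G] at hs h25
    have h25' : num G 25 = 0 := by omega
    have hs50 := dvd_sum (n := 50) (show 2 * 25 ∣ Nat.card G from
      Nat.Coprime.mul_dvd_of_dvd_of_dvd (by norm_num) h2G (by simpa using hd))
    have h10 := h.opts (m := 10) (T := {0, 20, 24}) (by norm_num) (by decide +kernel)
    have h50 : num G 50 = 0 := num_eq_zero_of_dvd (by norm_num) (by norm_num) h25'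
    rw [show (50 : ℕ).divisors = {1, 2, 5, 10, 25, 50} by decide] at hs50
    simp [num_one, hn2, hn5 h5G, h25', h50] at hs50 h10
    omega
  obtain ⟨e, he⟩ := exists_five (Or.inl rfl) (factorization_eq_one Nat.prime_five h5G h5sq)
    (hn5 h5G) (fun q hq hq5 => by
      rw [hn5 h5G]
      rcases eq_or_ne (num G (5 * q)) 0 with e0 | e0
      · omega
      have := h.mem _ e0
      simp only [Finset.mem_insert, Finset.mem_singleton] at this
      omega) (by rw [hn2]) (fun e6 => by norm_num at e6) hge
  rcases he.exp with rfl | rfl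
  · haveI := he.isSimpleGroup
    exact SmallSimple.iso_alternating_five he.noncomm he.card
  exfalso
  obtain ⟨N, hN, hi, hF⟩ := he.exists_index_two
  haveI := hN
  haveI := hF.isSimpleGroup
  obtain ⟨φ⟩ := SmallSimple.iso_alternating_five hF.noncomm hF.card
  have hz : ∀ m, m ∉ ({1, 2, 3, 5} : Finset ℕ) → num N m = 0 := fun m hm => by
    rw [num_congr φ, num_eq_zero_iff]
    exact fun g hg => hm (hg ▸ orderOf_alt_five g)
  obtain ⟨k, hk0, hk, hk4⟩ := he.num_four hi hF (hz 6 (by decide)) (d := 15) (by norm_num)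
    (by rw [he.card]; norm_num)
  have h4 := h.opts (m := 4) (T := {0, 20, 24}) (by norm_num) (by decide +kernel)
  rw [hk4, hz 4 (by decide)] at h4
  simp at h4
  omega

/-- `A_6`. -/
theorem iso_six (h : Vals G {1, 45, 80, 90, 144}) : Nonempty (G ≃* alternatingGroup (Fin 6)) := by
  classical
  haveI : Fact (Nat.Prime 5) := ⟨Nat.prime_five⟩
  haveI : Fact (Nat.Prime 7) := ⟨by norm_num⟩
  have hn2 : num G 2 = 45 := h.num_two (by decide) (by decide) (by norm_num)
  have h2G : 2 ∣ Nat.card G := by
    obtain ⟨g, hg⟩ := num_ne_zero_iff.1 (show num G 2 ≠ 0 by omega)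
    exact hg ▸ orderOf_dvd_natCard g
  have hge : 360 ≤ Nat.card G := le_trans (by decide) h.sum_le_card
  have hprime : ∀ p, p.Prime → p ≠ 2 → p ∣ Nat.card G →
      (p = 3 ∧ num G p = 80) ∨ (p = 7 ∧ num G p = 90) ∨ (p = 5 ∧ num G p = 144) := by
    intro p hp hp2 hd
    obtain ⟨hv, he, hd1, hdiv⟩ := h.prime_props hp hp2 hd
    simp only [Finset.mem_insert, Finset.mem_singleton] at hv
    rcases hv with e | e | e | e | e <;> rw [e] at he hd1 hdiv <;> try omega
    · rw [show (1 + 80 : ℕ).divisors = {1, 3, 9, 27, 81} by decide] at hdiv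
      simp only [Finset.mem_insert, Finset.mem_singleton] at hdiv
      rcases hdiv with rfl | rfl | rfl | rfl | rfl <;>
        first
        | exact Or.inl ⟨rfl, e⟩
        | exact Or.inr (Or.inl ⟨rfl, e⟩)
        | exact Or.inr (Or.inr ⟨rfl, e⟩)
        | exact Or.inr ⟨rfl, e⟩
        | (norm_num at hp; done)
        | (norm_num at hd1; done)
    · rw [show (1 + 90 : ℕ).divisors = {1, 7, 13, 91} by decide] at hdiv
      simp only [Finset.mem_insert, Finset.mem_singleton] at hdiv
      rcases hdiv with rfl | rfl | rfl | rfl <;>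
        first
        | exact Or.inl ⟨rfl, e⟩
        | exact Or.inr (Or.inl ⟨rfl, e⟩)
        | exact Or.inr (Or.inr ⟨rfl, e⟩)
        | exact Or.inr ⟨rfl, e⟩
        | (norm_num at hp; done)
        | (norm_num at hd1; done)
    · rw [show (1 + 144 : ℕ).divisors = {1, 5, 29, 145} by decide] at hdiv
      simp only [Finset.mem_insert, Finset.mem_singleton] at hdiv
      rcases hdiv with rfl | rfl | rfl | rfl <;>
        first
        | exact Or.inl ⟨rfl, e⟩
        | exact Or.inr (Or.inl ⟨rfl, e⟩)
        | exact Or.inr (Or.inr ⟨rfl, e⟩)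
        | exact Or.inr ⟨rfl, e⟩
        | (norm_num at hp; done)
        | (norm_num at hd1; done)
  have hn3 : 3 ∣ Nat.card G → num G 3 = 80 := fun hd => by
    rcases hprime 3 Nat.prime_three (by norm_num) hd with ⟨-, e⟩ | ⟨e, -⟩ | ⟨e, -⟩ <;> omega
  have hn5 : 5 ∣ Nat.card G → num G 5 = 144 := fun hd => by
    rcases hprime 5 Nat.prime_five (by norm_num) hd with ⟨e, -⟩ | ⟨e, -⟩ | ⟨-, e⟩ <;> omega
  have hn7 : 7 ∣ Nat.card G → num G 7 = 90 := fun hd => by
    rcases hprime 7 (by norm_num) (by norm_num) hd with ⟨e, -⟩ | ⟨-, e⟩ | ⟨e, -⟩ <;> omega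
  have hbound : ∀ m, num G m ≤ 144 := fun m => by
    rcases eq_or_ne (num G m) 0 with e0 | e0
    · omega
    have := h.mem _ e0
    simp only [Finset.mem_insert, Finset.mem_singleton] at this
    omega
  have h7G : ¬ 7 ∣ Nat.card G := fun hd => by
    have h7sq : ¬ 7 ^ 2 ∣ Nat.card G := fun hd2 => by
      have hs := dvd_sum hd2
      have h49 := h.opts (m := 49) (T := {0}) (by norm_num) (by decide +kernel)
      rw [show (7 ^ 2 : ℕ).divisors = {1, 7, 49} by decide] at hs
      simp [num_one, hn7 hd] at hs h49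
      omega
    have hv := factorization_eq_one (by norm_num) hd h7sq
    obtain ⟨P⟩ : Nonempty (Sylow 7 G) := inferInstance
    have hsub : Nat.card {s : {g : G // orderOf g = 2} //
        s.1 ∈ Subgroup.centralizer ((P : Subgroup G) : Set G)} ≤ 1 :=
      Finite.card_le_one_iff_subsingleton.2 ⟨fun a b => Subtype.ext (Subtype.ext
        (eq_of_mem_centralizer hv P Nat.prime_two (by norm_num)
          (by rw [hn7 hd]; have := hbound (7 * 2); omega) a.1.2 b.1.2 a.2 b.2))⟩
    have := conj_num_modEq P.isPGroup' 2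
    rw [hn2, Nat.ModEq] at this
    omega
  have hprimes : ∀ p, p.Prime → p ∣ Nat.card G → p = 2 ∨ p = 3 ∨ p = 5 := by
    intro p hp hd
    rcases eq_or_ne p 2 with rfl | hp2
    · exact Or.inl rfl
    rcases hprime p hp hp2 hd with ⟨rfl, -⟩ | ⟨rfl, -⟩ | ⟨rfl, -⟩
    · exact Or.inr (Or.inl rfl)
    · exact absurd hd h7G
    · exact Or.inr (Or.inr rfl)
  have h16 : ¬ 2 ^ 4 ∣ Nat.card G ∨ 5 ∣ Nat.card G := by
    refine Or.inl fun hd => ?_
    have hs := dvd_sum hd
    have h4 := h.opts (m := 4) (T := {0, 80, 90, 144}) (by norm_num) (by decide +kernel)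
    have h8 := h.opts (m := 8) (T := {0, 80, 144}) (by norm_num) (by decide +kernel)
    have h16 := h.opts (m := 16) (T := {0, 80, 144}) (by norm_num) (by decide +kernel)
    rw [show (2 ^ 4 : ℕ).divisors = {1, 2, 4, 8, 16} by decide] at hs
    simp [num_one, hn2] at hs h4 h8 h16
    omega
  have h9 := h.opts (m := 9) (T := {0, 90, 144}) (by norm_num) (by decide +kernel)
  have h27 := h.opts (m := 27) (T := {0, 90, 144}) (by norm_num) (by decide +kernel)
  have h81 : ¬ 3 ^ 4 ∣ Nat.card G := fun hd => by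
    have h3G : 3 ∣ Nat.card G := (dvd_pow_self 3 (by norm_num)).trans hd
    have hs := dvd_sum hd
    have h81 := h.opts (m := 81) (T := {0}) (by norm_num) (by decide +kernel)
    rw [show (3 ^ 4 : ℕ).divisors = {1, 3, 9, 27, 81} by decide] at hs
    simp [num_one, hn3 h3G] at hs h9 h27 h81
    have e9 : num G 9 = 0 := by omega
    have hz : ∀ m, 9 ∣ m → m ≠ 0 → num G m = 0 := fun m hm hm0 => num_eq_zero_of_dvd hm hm0 e9
    have hs162 := dvd_sum (n := 162) (show 2 * 81 ∣ Nat.card G from
      Nat.Coprime.mul_dvd_of_dvd_of_dvd (by norm_num) h2G (by simpa using hd))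
    have h6 := h.opts (m := 6) (T := {0, 80, 90, 144}) (by norm_num) (by decide +kernel)
    rw [show (162 : ℕ).divisors = {1, 2, 3, 6, 9, 18, 27, 54, 81, 162} by decide +kernel] at hs162
    simp [num_one, hn2, hn3 h3G, e9, hz 18 (by norm_num) (by norm_num),
      hz 27 (by norm_num) (by norm_num), hz 54 (by norm_num) (by norm_num),
      hz 81 (by norm_num) (by norm_num), hz 162 (by norm_num) (by norm_num)] at hs162 h6
    omega
  have h5G : 5 ∣ Nat.card G := by
    by_contra h5
    have hd := dvd_two_three_five Nat.card_pos.ne' hprimes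
      (factorization_le_of_not_dvd Nat.prime_two Nat.card_pos.ne' (h16.resolve_right h5))
      (factorization_le_of_not_dvd Nat.prime_three Nat.card_pos.ne' h81)
      (le_of_eq (Nat.factorization_eq_zero_of_not_dvd h5) : _ ≤ 0)
    have := Nat.le_of_dvd (by norm_num) hd
    omega
  have h5sq : ¬ 5 ^ 2 ∣ Nat.card G := fun hd => by
    have h25 := h.opts (m := 25) (T := {0, 80}) (by norm_num) (by decide +kernel)
    have hle : (Nat.card G).factorization 5 ≤ 2 := by
      refine factorization_le_of_not_dvd Nat.prime_five Nat.card_pos.ne' fun hd3 => ?_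
      have hs := dvd_sum hd3
      have h125 := h.opts (m := 125) (T := {0}) (by norm_num) (by decide +kernel)
      rw [show (5 ^ (2 + 1) : ℕ).divisors = {1, 5, 25, 125} by decide +kernel] at hs
      simp [num_one, hn5 h5G] at hs h25 h125
      omega
    have hv : (Nat.card G).factorization 5 = 2 := le_antisymm hle
      ((Nat.prime_five.pow_dvd_iff_le_factorization Nat.card_pos.ne').1 hd)
    have hs := dvd_sum hd
    rw [show (5 ^ 2 : ℕ).divisors = {1, 5, 25} by decide] at hs
    simp [num_one, hn5 h5G] at hs h25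
    have hroot := mul_num_le_num_sq hv
    norm_num [hn5 h5G] at hroot
    omega
  obtain ⟨e, he⟩ := exists_five (Or.inr rfl) (factorization_eq_one Nat.prime_five h5G h5sq)
    (hn5 h5G) (fun q hq hq5 => by
      rw [hn5 h5G]
      have := hbound (5 * q)
      omega) (by rw [hn2]) (fun _ => hn2) hge
  rcases he.exp with rfl | rfl
  · haveI := he.isSimpleGroup
    exact SmallSimple.iso_alternating_six he.card
  exfalso
  obtain ⟨N, hN, hi, hF⟩ := he.exists_index_two
  haveI := hN
  haveI := hF.isSimpleGroup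
  obtain ⟨φ⟩ := SmallSimple.iso_alternating_six (G := N) hF.card
  have h6N : num N 6 = 0 := by
    rw [num_congr φ, num_eq_zero_iff]
    intro g hg
    have := orderOf_alt_six g
    rw [hg] at this
    revert this
    decide
  obtain ⟨k, hk0, hk, hk4⟩ := he.num_four hi hF h6N (d := 45) (by norm_num)
    (by rw [he.card]; norm_num)
  have h4 := h.opts (m := 4) (T := {0, 80, 90, 144}) (by norm_num) (by decide +kernel)
  rw [hk4, num_congr φ, num_alt_six.2.2.1] at h4
  simp at h4
  omega

/-- The values of the alternating groups. -/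
theorem recognise {G : Type*} [Group G] [Finite G] (n : ℕ) (hn : n = 4 ∨ n = 5 ∨ n = 6)
    (h : (fun m : ℕ => num G m) '' Set.range (orderOf : G → ℕ) =
      (fun m : ℕ => num (alternatingGroup (Fin n)) m) ''
        Set.range (orderOf : alternatingGroup (Fin n) → ℕ)) :
    Nonempty (G ≃* alternatingGroup (Fin n)) := by
  rcases hn with rfl | rfl | rfl
  · obtain ⟨a2, a3⟩ := num_alt_four
    have hv := vals_of_eq h {1, 2, 3} orderOf_alt_four (by simp [num_one, a2, a3])
    simp [num_one, a2, a3] at hv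
    exact iso_four hv
  · obtain ⟨a2, a3, a5⟩ := num_alt_five
    have hv := vals_of_eq h {1, 2, 3, 5} orderOf_alt_five (by simp [num_one, a2, a3, a5])
    simp [num_one, a2, a3, a5] at hv
    exact iso_five hv
  · obtain ⟨a2, a3, a4, a5⟩ := num_alt_six
    have hv := vals_of_eq h {1, 2, 3, 4, 5} orderOf_alt_six (by simp [num_one, a2, a3, a4, a5])
    simp [num_one, a2, a3, a4, a5] at hv
    exact iso_six hv

end Cfsg.Agent.OrderCounts
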