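import Cfsg.Agent.Lib.OrderCounts.ThreeValues
import Mathlib.GroupTheory.SpecificGroups.Alternating

/-!
# Element counts in the alternating groups of degree 4, 5 and 6
-/

set_option autoImplicit false

namespace Cfsg.Agent.OrderCounts

open Equiv Equiv.Perm

theorem card_roots_alt (n k : ℕ) :
    Nat.card {g : alternatingGroup (Fin n) // g ^ k = 1} =
      (Finset.univ.filter fun g : Perm (Fin n) => sign g = 1 ∧ g ^ k = 1).card := by
  classical
  rw [← Fintype.card_subtype, ← Nat.card_eq_fintype_card]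
  exact Nat.card_congr
    { toFun := fun g => ⟨g.1.1, g.1.2, by rw [← SubgroupClass.coe_pow, g.2, OneMemClass.coe_one]⟩
      invFun := fun g => ⟨⟨g.1, g.2.1⟩, Subtype.ext (by simpa using g.2.2)⟩
      left_inv := fun g => rfl
      right_inv := fun g => rfl }

theorem num_alt_prime {n p c : ℕ} (hp : p.Prime)
    (h : (Finset.univ.filter fun g : Perm (Fin n) => sign g = 1 ∧ g ^ p = 1).card = c + 1) :
    num (alternatingGroup (Fin n)) p = c := by
  have e := sum_eq (G := alternatingGroup (Fin n)) hp.ne_zero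
  rw [card_roots_alt, h, hp.divisors, Finset.sum_pair hp.one_lt.ne, num_one] at e
  omega

theorem alt_four_powers :
    ∀ g : Perm (Fin 4), sign g = 1 → g ^ 2 = 1 ∨ g ^ 3 = 1 := by decide +kernel

theorem alt_five_powers :
    ∀ g : Perm (Fin 5), sign g = 1 → g ^ 2 = 1 ∨ g ^ 3 = 1 ∨ g ^ 5 = 1 := by decide +kernel

theorem alt_six_powers :
    ∀ g : Perm (Fin 6), sign g = 1 → g ^ 3 = 1 ∨ g ^ 4 = 1 ∨ g ^ 5 = 1 := by decide +kernel

theorem num_alt_four : num (alternatingGroup (Fin 4)) 2 = 3 ∧ num (alternatingGroup (Fin 4)) 3 = 8 :=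
  ⟨num_alt_prime Nat.prime_two (by decide +kernel), num_alt_prime Nat.prime_three (by decide +kernel)⟩

theorem num_alt_five : num (alternatingGroup (Fin 5)) 2 = 15 ∧
    num (alternatingGroup (Fin 5)) 3 = 20 ∧ num (alternatingGroup (Fin 5)) 5 = 24 :=
  ⟨num_alt_prime Nat.prime_two (by decide +kernel), num_alt_prime Nat.prime_three (by decide +kernel),
    num_alt_prime Nat.prime_five (by decide +kernel)⟩

theorem num_alt_six : num (alternatingGroup (Fin 6)) 2 = 45 ∧
    num (alternatingGroup (Fin 6)) 3 = 80 ∧ num (alternatingGroup (Fin 6)) 4 = 90 ∧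
    num (alternatingGroup (Fin 6)) 5 = 144 := by
  have h2 : num (alternatingGroup (Fin 6)) 2 = 45 := num_alt_prime Nat.prime_two (by decide +kernel)
  refine ⟨h2, num_alt_prime Nat.prime_three (by decide +kernel), ?_,
    num_alt_prime Nat.prime_five (by decide +kernel)⟩
  have e := sum_eq (G := alternatingGroup (Fin 6)) (n := 4) (by norm_num)
  rw [card_roots_alt, show (Finset.univ.filter fun g : Perm (Fin 6) => sign g = 1 ∧ g ^ 4 = 1).card
      = 136 by decide +kernel, show (4 : ℕ).divisors = {1, 2, 4} by decide,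
    Finset.sum_insert (by decide), Finset.sum_pair (by norm_num), num_one, h2] at e
  omega

theorem orderOf_alt_four (g : alternatingGroup (Fin 4)) : orderOf g ∈ ({1, 2, 3} : Finset ℕ) := by
  rw [← Subgroup.orderOf_coe]
  rcases alt_four_powers _ g.2 with h | h
  · rcases (Nat.dvd_prime Nat.prime_two).1 (orderOf_dvd_of_pow_eq_one h) with e | e <;> simp [e]
  · rcases (Nat.dvd_prime Nat.prime_three).1 (orderOf_dvd_of_pow_eq_one h) with e | e <;> simp [e]

theorem orderOf_alt_five (g : alternatingGroup (Fin 5)) : orderOf g ∈ ({1, 2, 3, 5} : Finset ℕ) := by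
  rw [← Subgroup.orderOf_coe]
  rcases alt_five_powers _ g.2 with h | h | h
  · rcases (Nat.dvd_prime Nat.prime_two).1 (orderOf_dvd_of_pow_eq_one h) with e | e <;> simp [e]
  · rcases (Nat.dvd_prime Nat.prime_three).1 (orderOf_dvd_of_pow_eq_one h) with e | e <;> simp [e]
  · rcases (Nat.dvd_prime Nat.prime_five).1 (orderOf_dvd_of_pow_eq_one h) with e | e <;> simp [e]

theorem orderOf_alt_six (g : alternatingGroup (Fin 6)) :
    orderOf g ∈ ({1, 2, 3, 4, 5} : Finset ℕ) := by
  rw [← Subgroup.orderOf_coe]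
  rcases alt_six_powers _ g.2 with h | h | h
  · rcases (Nat.dvd_prime Nat.prime_three).1 (orderOf_dvd_of_pow_eq_one h) with e | e <;> simp [e]
  · have hd := orderOf_dvd_of_pow_eq_one h
    have hle := Nat.le_of_dvd (by norm_num) hd
    interval_cases orderOf (g : Perm (Fin 6)) <;> first | decide | norm_num at hd
  · rcases (Nat.dvd_prime Nat.prime_five).1 (orderOf_dvd_of_pow_eq_one h) with e | e <;> simp [e]

end Cfsg.Agent.OrderCounts
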