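import Cfsg.Agent.Lib.OrderCounts.ThreeValues
import Cfsg.Agent.Lib.SmallSimple.Order168
import Mathlib.GroupTheory.Sylow

/-!
# Numbers of elements of given order against Sylow subgroups and their centralisers
-/

set_option autoImplicit false

namespace Cfsg.Agent.OrderCounts

open scoped Pointwise

variable {G : Type*} [Group G] [Finite G]

omit [Finite G] in
theorem num_congr {H : Type*} [Group H] (e : G ≃* H) (m : ℕ) : num G m = num H m :=
  Nat.card_congr (e.toEquiv.subtypeEquiv fun g => by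
    show orderOf g = m ↔ orderOf (e g) = m
    rw [MulEquiv.orderOf_eq])

theorem num_eq_zero_iff {m : ℕ} : num G m = 0 ↔ ∀ g : G, orderOf g ≠ m := by
  rw [← not_iff_not, not_forall, ← ne_eq, num_ne_zero_iff]
  simp

/-- No elements of order `m` means none of order a multiple of `m`. -/
theorem num_eq_zero_of_dvd {m k : ℕ} (hk : m ∣ k) (hk0 : k ≠ 0) (h : num G m = 0) : num G k = 0 := by
  rw [num_eq_zero_iff] at h ⊢
  intro g hg
  apply h (g ^ (orderOf g / m))
  exact orderOf_pow_orderOf_div (hg ▸ hk0) (hg ▸ hk)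

theorem card_sylow_eq_prime {p : ℕ} [Fact p.Prime] (hv : (Nat.card G).factorization p = 1)
    (P : Sylow p G) : Nat.card (P : Subgroup G) = p := by
  rw [P.card_eq_multiplicity, hv, pow_one]

theorem num_prime_eq {p : ℕ} [Fact p.Prime] (hv : (Nat.card G).factorization p = 1) :
    num G p = Nat.card (Sylow p G) * (p - 1) :=
  SmallSimple.card_orderOf_eq_prime (card_sylow_eq_prime hv)

/-- An element of order `p ^ 2` in a Sylow subgroup of that order gives `p` roots for each element
of order `p`. -/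
theorem mul_num_le_num_sq {p : ℕ} [hp : Fact p.Prime] (hv : (Nat.card G).factorization p = 2)
    (hne : num G (p ^ 2) ≠ 0) : p * num G p ≤ num G (p ^ 2) := by
  obtain ⟨g, hg⟩ := num_ne_zero_iff.1 hne
  let Q : Sylow p G := Sylow.ofCard (Subgroup.zpowers g) (by rw [Nat.card_zpowers, hg, hv])
  have hQ : (Q : Subgroup G) = Subgroup.zpowers g := rfl
  have hroot : ∀ c : {c : G // orderOf c = p}, ∃ x : G, x ^ p = c.1 := by
    intro c
    obtain ⟨P, hP⟩ := (IsPGroup.of_card (p := p) (n := 1) (G := Subgroup.zpowers c.1)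
      (by rw [Nat.card_zpowers, c.2, pow_one])).exists_le_sylow
    obtain ⟨u, hu⟩ := MulAction.exists_smul_eq G Q P
    have hc : c.1 ∈ MulAut.conj u • (Q : Subgroup G) := by
      rw [← Sylow.coe_subgroup_smul, hu]
      exact hP (Subgroup.mem_zpowers c.1)
    rw [Subgroup.mem_pointwise_smul_iff_inv_smul_mem, hQ, Subgroup.mem_zpowers_iff] at hc
    obtain ⟨k, hk⟩ := hc
    have hc' : c.1 = u * g ^ k * u⁻¹ := by
      rw [hk]
      simp [mul_assoc]
    have hgp : g ^ (k * p) = 1 := by
      have h := congrArg (· ^ p) hc'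
      simp only [conj_pow] at h
      rw [show c.1 ^ p = 1 from orderOf_dvd_iff_pow_eq_one.1 c.2.dvd] at h
      rw [zpow_mul, zpow_natCast]
      exact conj_eq_one_iff.1 h.symm
    rw [← orderOf_dvd_iff_zpow_eq_one, hg] at hgp
    have hpk : (p : ℤ) ∣ k := by
      have h0 : (p : ℤ) ≠ 0 := by exact_mod_cast hp.out.ne_zero
      push_cast at hgp
      rw [pow_two] at hgp
      exact (mul_dvd_mul_iff_right h0).1 hgp
    obtain ⟨j, rfl⟩ := hpk
    refine ⟨u * g ^ j * u⁻¹, ?_⟩
    rw [conj_pow, hc', ← zpow_natCast, ← zpow_mul, mul_comm j]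
  choose x hx using hroot
  have hxc : ∀ (c : {c : G // orderOf c = p}) (i : ℕ), (x c * c.1 ^ i) ^ p = c.1 := fun c i => by
    have hcom : Commute (x c) (c.1 ^ i) := by
      rw [← hx c, ← pow_mul]
      exact Commute.self_pow _ _
    rw [hcom.mul_pow, hx, ← pow_mul, mul_comm i, pow_mul,
      show c.1 ^ p = 1 from orderOf_dvd_iff_pow_eq_one.1 c.2.dvd, one_pow, mul_one]
  have hord : ∀ (c : {c : G // orderOf c = p}) (i : ℕ), orderOf (x c * c.1 ^ i) = p ^ 2 := fun c i => by
    refine orderOf_eq_prime_pow (n := 1) ?_ ?_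
    · rw [pow_one, hxc]
      intro h
      exact hp.out.one_lt.ne (by rw [← c.2, h, orderOf_one])
    · rw [show p ^ (1 + 1) = p * p by ring, pow_mul, hxc]
      exact orderOf_dvd_iff_pow_eq_one.1 c.2.dvd
  let f : Fin p × {c : G // orderOf c = p} → {g : G // orderOf g = p ^ 2} :=
    fun a => ⟨x a.2 * a.2.1 ^ (a.1 : ℕ), hord _ _⟩
  have hf : Function.Injective f := by
    rintro ⟨i, c⟩ ⟨j, d⟩ h
    have h' : x c * c.1 ^ (i : ℕ) = x d * d.1 ^ (j : ℕ) := congrArg Subtype.val h
    obtain rfl : c = d := Subtype.ext (by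
      have := congrArg (· ^ p) h'
      simpa [hxc] using this)
    have := pow_injOn_Iio_orderOf (x := c.1) (by rw [c.2]; exact i.2) (by rw [c.2]; exact j.2)
      (mul_left_cancel h')
    simp [Fin.ext this]
  have := Nat.card_le_card_of_injective f hf
  rwa [Nat.card_prod, Nat.card_fin] at this

/-- Few elements of order `p q` leave at most one element of order `q` centralising a Sylow
`p`-subgroup of order `p`. -/
theorem eq_of_mem_centralizer {p : ℕ} [hp : Fact p.Prime] (hv : (Nat.card G).factorization p = 1)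
    (P : Sylow p G) {q : ℕ} (hq : q.Prime) (hqp : q ≠ p) (hb : num G (p * q) < 2 * num G p)
    {y₁ y₂ : G} (h₁ : orderOf y₁ = q) (h₂ : orderOf y₂ = q)
    (c₁ : y₁ ∈ Subgroup.centralizer ((P : Subgroup G) : Set G))
    (c₂ : y₂ ∈ Subgroup.centralizer ((P : Subgroup G) : Set G)) : y₁ = y₂ := by
  by_contra hne
  have hex : ∀ v : {v : G // orderOf v = p}, ∃ g : G, g⁻¹ * v.1 * g ∈ (P : Subgroup G) := by
    intro v
    obtain ⟨Q, hQ⟩ := SmallSimple.zpowers_eq_sylow (card_sylow_eq_prime hv) v.2
    obtain ⟨g, hg⟩ := MulAction.exists_smul_eq G P Q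
    have hm : v.1 ∈ MulAut.conj g • (P : Subgroup G) := by
      rw [← Sylow.coe_subgroup_smul, hg, hQ]
      exact Subgroup.mem_zpowers v.1
    rw [Subgroup.mem_pointwise_smul_iff_inv_smul_mem] at hm
    exact ⟨g, by simpa using hm⟩
  choose g hg using hex
  let y : Bool → G := fun b => if b then y₁ else y₂
  have hy : ∀ b, orderOf (y b) = q ∧ y b ∈ Subgroup.centralizer ((P : Subgroup G) : Set G) := by
    intro b
    cases b
    · exact ⟨h₂, c₂⟩
    · exact ⟨h₁, c₁⟩
  have hcom : ∀ (v : {v : G // orderOf v = p}) b, Commute v.1 (g v * y b * (g v)⁻¹) := by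
    intro v b
    have h0 : Commute ((g v)⁻¹ * v.1 * g v) (y b) := Subgroup.mem_centralizer_iff.1 (hy b).2 _ (hg v)
    have h1 := h0.map (MulAut.conj (g v)).toMonoidHom
    simpa [mul_assoc] using h1
  have hord : ∀ (v : {v : G // orderOf v = p}) b, orderOf (g v * y b * (g v)⁻¹) = q := fun v b => by
    rw [← MulAut.conj_apply, MulEquiv.orderOf_eq, (hy b).1]
  have hpq : Nat.Coprime p q := (Nat.coprime_primes hp.out hq).2 hqp.symm
  let f : Bool × {v : G // orderOf v = p} → {x : G // orderOf x = p * q} := fun a =>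
    ⟨a.2.1 * (g a.2 * y a.1 * (g a.2)⁻¹), by
      rw [(hcom _ _).orderOf_mul_eq_mul_orderOf_of_coprime (by rw [a.2.2, hord]; exact hpq),
        a.2.2, hord]⟩
  obtain ⟨m, -, hm⟩ := Nat.exists_mul_mod_eq_one_of_coprime hpq.symm hp.out.one_lt
  have hproj : ∀ (v : {v : G // orderOf v = p}) b,
      (v.1 * (g v * y b * (g v)⁻¹)) ^ (q * m) = v.1 := by
    intro v b
    rw [(hcom v b).mul_pow, pow_mul (g v * y b * (g v)⁻¹), ← hord v b, pow_orderOf_eq_one, one_pow,
      mul_one, ← pow_mod_orderOf, hord, v.2, hm, pow_one]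
  have hf : Function.Injective f := by
    rintro ⟨b, v⟩ ⟨b', v'⟩ h
    have h' : v.1 * (g v * y b * (g v)⁻¹) = v'.1 * (g v' * y b' * (g v')⁻¹) :=
      congrArg Subtype.val h
    obtain rfl : v = v' := Subtype.ext (by rw [← hproj v b, h', hproj])
    have hyy : y b = y b' := mul_left_cancel (mul_right_cancel (mul_left_cancel h'))
    cases b <;> cases b' <;> first | rfl | exact absurd hyy hne | exact absurd hyy.symm hne
  have := Nat.card_le_card_of_injective f hf
  rw [Nat.card_prod, show Nat.card Bool = 2 by simp] at this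
  change 2 * num G p ≤ num G (p * q) at this
  omega

omit [Finite G] in
/-- A set stable under conjugation by a `p`-subgroup has as many elements, modulo `p`, as it has
elements centralising that subgroup. -/
theorem conj_modEq [Finite G] {p : ℕ} [Fact p.Prime] {P : Subgroup G} (hP : IsPGroup p P) (S : Set G)
    (hS : ∀ x ∈ P, ∀ s ∈ S, x * s * x⁻¹ ∈ S) :
    Nat.card S ≡ Nat.card {s : S // (s : G) ∈ Subgroup.centralizer (P : Set G)} [MOD p] := by
  let _ : MulAction P S :=
    { smul := fun x s => ⟨(x : G) * (s : G) * (x : G)⁻¹, hS _ x.2 _ s.2⟩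
      one_smul := fun s => Subtype.ext (show (1 : G) * s * (1 : G)⁻¹ = s by simp)
      mul_smul := fun x y s => Subtype.ext
        (show ((x : G) * y) * s * ((x : G) * y)⁻¹ = x * (y * s * (y : G)⁻¹) * (x : G)⁻¹ by group) }
  suffices e : Nat.card (MulAction.fixedPoints P S) =
      Nat.card {s : S // (s : G) ∈ Subgroup.centralizer (P : Set G)} by
    rw [← e]
    exact hP.card_modEq_card_fixedPoints S
  refine Nat.card_congr (Equiv.subtypeEquivRight fun s => ?_)
  constructor
  · intro h
    refine Subgroup.mem_centralizer_iff.2 fun x hx => ?_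
    have := congrArg Subtype.val (h ⟨x, hx⟩)
    exact mul_inv_eq_iff_eq_mul.1 this
  · intro h x
    exact Subtype.ext (mul_inv_eq_iff_eq_mul.2 (Subgroup.mem_centralizer_iff.1 h _ x.2))

theorem conj_num_modEq {p : ℕ} [Fact p.Prime] {P : Subgroup G} (hP : IsPGroup p P) (m : ℕ) :
    num G m ≡ Nat.card {s : {g : G // orderOf g = m} // s.1 ∈ Subgroup.centralizer (P : Set G)}
      [MOD p] :=
  conj_modEq hP {g : G | orderOf g = m} fun x _ s hs => by
    show orderOf (x * s * x⁻¹) = m
    rw [← MulAut.conj_apply, MulEquiv.orderOf_eq]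
    exact hs

theorem factorization_le_of_not_dvd {n p k : ℕ} (hp : p.Prime) (hn : n ≠ 0) (h : ¬ p ^ (k + 1) ∣ n) :
    n.factorization p ≤ k := by
  by_contra hlt
  exact h ((hp.pow_dvd_iff_le_factorization hn).2 (by omega))

theorem dvd_two_three_five {n a b c : ℕ} (hn : n ≠ 0)
    (hP : ∀ p, p.Prime → p ∣ n → p = 2 ∨ p = 3 ∨ p = 5)
    (ha : n.factorization 2 ≤ a) (hb : n.factorization 3 ≤ b) (hc : n.factorization 5 ≤ c) :
    n ∣ 2 ^ a * 3 ^ b * 5 ^ c := by
  have h := Nat.prod_factorization_pow_eq_self hn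
  rw [Finsupp.prod, Nat.support_factorization] at h
  have hsub : n.primeFactors ⊆ ({2, 3, 5} : Finset ℕ) := fun p hp => by
    simpa using hP p (Nat.prime_of_mem_primeFactors hp) (Nat.dvd_of_mem_primeFactors hp)
  rw [Finset.prod_subset hsub (fun p _ hp => by
    rw [← Nat.support_factorization, Finsupp.notMem_support_iff] at hp
    rw [hp, pow_zero]), Finset.prod_insert (by decide), Finset.prod_pair (by norm_num)] at h
  rw [← h, ← mul_assoc]
  exact mul_dvd_mul (mul_dvd_mul (pow_dvd_pow 2 ha) (pow_dvd_pow 3 hb)) (pow_dvd_pow 5 hc)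

end Cfsg.Agent.OrderCounts
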