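import Cfsg.Agent.S3993
import Cfsg.Agent.Lib.CharInt.Burnside
import Mathlib.Data.ZMod.Basic
import Mathlib.Algebra.Field.ZMod
import Mathlib.NumberTheory.ArithmeticFunction.Misc
import Mathlib.Tactic.LinearCombination

/-!
# Groups in which the numbers of elements of given order take three values

Frobenius' divisibility theorem gives: at most two odd primes, and with two odd primes `4 ∤ |G|`.
-/

set_option autoImplicit false

namespace Cfsg.Agent.OrderCounts

open scoped Pointwise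

/-- Number of elements of order `m`. -/
noncomputable def num (G : Type*) [Group G] (m : ℕ) : ℕ := Nat.card {g : G // orderOf g = m}

variable {G : Type*} [Group G] [Finite G]

omit [Finite G] in
theorem num_one : num G 1 = 1 := by
  rw [num, Nat.card_congr (Equiv.subtypeEquivRight fun g : G => orderOf_eq_one_iff),
    Nat.card_eq_one_iff_unique]
  exact ⟨⟨fun a b => Subtype.ext (a.2.trans b.2.symm)⟩, ⟨⟨1, rfl⟩⟩⟩

theorem num_ne_zero_iff {m : ℕ} : num G m ≠ 0 ↔ ∃ g : G, orderOf g = m := by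
  rw [num, Nat.card_ne_zero, nonempty_subtype]
  exact ⟨fun h => h.1, fun h => ⟨h, inferInstance⟩⟩

theorem num_prime_ne_zero {p : ℕ} (hp : p.Prime) (h : p ∣ Nat.card G) : num G p ≠ 0 := by
  haveI := Fact.mk hp
  exact num_ne_zero_iff.2 (exists_prime_orderOf_dvd_card' p h)

theorem totient_dvd_num (m : ℕ) : m.totient ∣ num G m :=
  S3993.totient_dvd_card (fun g : G => orderOf g = m)
    (fun _ _ h hy => (S3993.orderOf_eq_of_zpowers_eq h).trans hy) fun _ h => h.symm.dvd

theorem sum_eq {n : ℕ} (hn : n ≠ 0) :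
    ∑ d ∈ n.divisors, num G d = Nat.card {g : G // g ^ n = 1} := by
  classical
  let _ := Fintype.ofFinite G
  simp only [num, Nat.card_eq_fintype_card, Fintype.card_subtype]
  exact sum_card_orderOf_eq_card_pow_eq_one hn

theorem sum_le {n : ℕ} (hn : n ≠ 0) : ∑ d ∈ n.divisors, num G d ≤ Nat.card G := by
  rw [sum_eq hn]
  exact Nat.card_le_card_of_injective _ Subtype.val_injective

theorem dvd_sum {n : ℕ} (hn : n ∣ Nat.card G) : n ∣ ∑ d ∈ n.divisors, num G d := by
  rw [sum_eq (fun h => Nat.card_pos.ne' (Nat.eq_zero_of_zero_dvd (h ▸ hn)))]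
  exact S3993.result n hn

theorem sum_divisors_prime_mul {p n : ℕ} (hp : p.Prime) (hpn : ¬ p ∣ n) (f : ℕ → ℕ) :
    ∑ d ∈ (p * n).divisors, f d = ∑ d ∈ n.divisors, f d + ∑ d ∈ n.divisors, f (p * d) := by
  classical
  rw [Nat.divisors_mul, hp.divisors]
  have e : ({1, p} : Finset ℕ) * n.divisors =
      n.divisors ∪ n.divisors.image (fun d => p * d) := by
    ext x
    simp only [Finset.mem_mul, Finset.mem_insert, Finset.mem_singleton, Finset.mem_union,
      Finset.mem_image]
    constructor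
    · rintro ⟨a, rfl | rfl, b, hb, rfl⟩
      · exact Or.inl (by rwa [one_mul])
      · exact Or.inr ⟨b, hb, rfl⟩
    · rintro (h | ⟨b, hb, rfl⟩)
      · exact ⟨1, Or.inl rfl, x, h, one_mul x⟩
      · exact ⟨p, Or.inr rfl, b, hb, rfl⟩
  rw [e, Finset.sum_union, Finset.sum_image]
  · intro a _ b _ h
    exact Nat.eq_of_mul_eq_mul_left hp.pos h
  · rw [Finset.disjoint_left]
    intro x hx hx'
    obtain ⟨b, -, rfl⟩ := Finset.mem_image.1 hx'
    exact hpn ((dvd_mul_right p b).trans (Nat.dvd_of_mem_divisors hx))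

omit [Finite G] in
theorem sum_two {p q : ℕ} (hp : p.Prime) (hq : q.Prime) (hpq : p ≠ q) :
    ∑ d ∈ (p * q).divisors, num G d = 1 + num G p + num G q + num G (p * q) := by
  rw [sum_divisors_prime_mul hp (fun h => hpq ((Nat.prime_dvd_prime_iff_eq hp hq).1 h)), hq.divisors,
    Finset.sum_pair hq.one_lt.ne, Finset.sum_pair hq.one_lt.ne, mul_one, num_one]
  ring

omit [Finite G] in
theorem sum_three {p q r : ℕ} (hp : p.Prime) (hq : q.Prime) (hr : r.Prime) (hpq : p ≠ q)
    (hpr : p ≠ r) (hqr : q ≠ r) :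
    ∑ d ∈ (p * (q * r)).divisors, num G d = 1 + num G p + num G q + num G r + num G (p * q) +
      num G (p * r) + num G (q * r) + num G (p * (q * r)) := by
  have hq' : ¬ q ∣ r := fun h => hqr ((Nat.prime_dvd_prime_iff_eq hq hr).1 h)
  rw [sum_divisors_prime_mul hp (fun h => (hp.dvd_mul.1 h).elim
      (fun h => hpq ((Nat.prime_dvd_prime_iff_eq hp hq).1 h))
      fun h => hpr ((Nat.prime_dvd_prime_iff_eq hp hr).1 h)),
    sum_divisors_prime_mul hq hq', sum_divisors_prime_mul hq hq', hr.divisors,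
    Finset.sum_pair hr.one_lt.ne, Finset.sum_pair hr.one_lt.ne, Finset.sum_pair hr.one_lt.ne,
    Finset.sum_pair hr.one_lt.ne, mul_one, mul_one, num_one]
  ring

omit [Group G] [Finite G] in
theorem dvd_card_two {p q : ℕ} (hp : p.Prime) (hq : q.Prime) (hpq : p ≠ q) (hpG : p ∣ Nat.card G)
    (hqG : q ∣ Nat.card G) : p * q ∣ Nat.card G :=
  ((Nat.coprime_primes hp hq).2 hpq).mul_dvd_of_dvd_of_dvd hpG hqG

/-- Congruence at `p` for the solutions of `x ^ (p q) = 1`. -/
theorem cong_two {p q : ℕ} (hp : p.Prime) (hq : q.Prime) (hpq : p ≠ q) (hpG : p ∣ Nat.card G)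
    (hqG : q ∣ Nat.card G) :
    (1 + num G p + num G q + num G (p * q) : ZMod p) = 0 := by
  have h := (dvd_mul_right p q).trans (dvd_sum (dvd_card_two hp hq hpq hpG hqG))
  rw [sum_two hp hq hpq, ← ZMod.natCast_eq_zero_iff] at h
  exact_mod_cast h

theorem cong_prime {p : ℕ} (hp : p.Prime) (hpG : p ∣ Nat.card G) :
    (num G p : ZMod p) = -1 := by
  have h := dvd_sum hpG
  rw [hp.divisors, Finset.sum_pair hp.one_lt.ne, num_one,
    ← ZMod.natCast_eq_zero_iff, Nat.cast_add, Nat.cast_one] at h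
  linear_combination h

theorem one_ne_zero' {p : ℕ} (hp : p.Prime) : (1 : ZMod p) ≠ 0 := by
  haveI := Fact.mk hp
  exact one_ne_zero

theorem two_ne_zero' {p : ℕ} (hp : p.Prime) (hp2 : p ≠ 2) : (2 : ZMod p) ≠ 0 := by
  intro h
  have h' : ((2 : ℕ) : ZMod p) = 0 := by exact_mod_cast h
  rw [ZMod.natCast_eq_zero_iff] at h'
  exact hp2 ((Nat.prime_dvd_prime_iff_eq hp Nat.prime_two).1 h')

theorem two_dvd_num {m : ℕ} (hm : 2 < m) : 2 ∣ num G m :=
  (Nat.totient_even hm).two_dvd.trans (totient_dvd_num m)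

theorem four_dvd_totient_mul {p q : ℕ} (hp : p.Prime) (hq : q.Prime) (hp2 : p ≠ 2) (hq2 : q ≠ 2)
    (hpq : p ≠ q) : 4 ∣ (p * q).totient := by
  rw [Nat.totient_mul ((Nat.coprime_primes hp hq).2 hpq), show (4 : ℕ) = 2 * 2 from rfl]
  exact mul_dvd_mul (Nat.totient_even (lt_of_le_of_ne hp.two_le hp2.symm)).two_dvd
    (Nat.totient_even (lt_of_le_of_ne hq.two_le hq2.symm)).two_dvd

/-- `u`, `v` are the two numbers of elements of orders at least 3. -/
def Two (G : Type*) [Group G] (u v : ℕ) : Prop :=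
  ∀ m, 2 < m → num G m = 0 ∨ num G m = u ∨ num G m = v

omit [Finite G] in
theorem Two.symm {u v : ℕ} (h : Two G u v) : Two G v u := fun m hm => (h m hm).imp id Or.symm

theorem Two.prime {u v : ℕ} (h : Two G u v) {p : ℕ} (hp : p.Prime) (hp2 : p ≠ 2)
    (hpG : p ∣ Nat.card G) : num G p = u ∨ num G p = v :=
  (h p (lt_of_le_of_ne hp.two_le hp2.symm)).resolve_left (num_prime_ne_zero hp hpG)

theorem lt_mul_primes {p q : ℕ} (hp : p.Prime) (hq : q.Prime) : 2 < p * q :=
  lt_of_lt_of_le (by norm_num : 2 < 2 * 2) (Nat.mul_le_mul hp.two_le hq.two_le)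

/-- (L1) Two odd primes with the same count `u`: pairs have count `v ≡ 1`. -/
theorem pair {u v : ℕ} (h : Two G u v) {p q : ℕ} (hp : p.Prime) (hq : q.Prime) (hp2 : p ≠ 2)
    (hpq : p ≠ q) (hpG : p ∣ Nat.card G) (hqG : q ∣ Nat.card G) (hpu : num G p = u)
    (hqu : num G q = u) : num G (p * q) = v ∧ (v : ZMod p) = 1 := by
  have h1 := cong_two hp hq hpq hpG hqG
  have h2 := cong_prime hp hpG
  rw [hpu] at h1 h2
  rw [hqu, h2] at h1
  rcases h (p * q) (lt_mul_primes hp hq) with e | e | e <;> rw [e] at h1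
  · exact absurd (by push_cast at h1; linear_combination -h1) (one_ne_zero' hp)
  · exact absurd (by rw [h2] at h1; linear_combination -h1) (two_ne_zero' hp hp2)
  · exact ⟨e, by linear_combination h1⟩

/-- (L2) Three odd primes have the same count. -/
theorem same {u v : ℕ} (h : Two G u v) {p q r : ℕ} (hp : p.Prime) (hq : q.Prime) (hr : r.Prime)
    (hp2 : p ≠ 2) (hq2 : q ≠ 2) (hr2 : r ≠ 2) (hpq : p ≠ q) (hpr : p ≠ r) (hqr : q ≠ r)
    (hpG : p ∣ Nat.card G) (hqG : q ∣ Nat.card G) (hrG : r ∣ Nat.card G) (hpu : num G p = u)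
    (hqu : num G q = u) (hrv : num G r = v) : False := by
  obtain ⟨hpqv, hv1⟩ := pair h hp hq hp2 hpq hpG hqG hpu hqu
  obtain ⟨-, hv1'⟩ := pair h hq hp hq2 hpq.symm hqG hpG hqu hpu
  have hmixed : ∀ {s : ℕ}, s.Prime → s ≠ 2 → s ≠ r → s ∣ Nat.card G → num G s = u →
      (v : ZMod s) = 1 → num G (s * r) = u ∧ (u : ZMod r) = 0 := by
    intro s hs hs2 hsr hsG hsu hv
    have h1 := cong_two hs hr hsr hsG hrG
    have h2 := cong_prime hs hsG
    rw [hsu] at h1 h2
    rw [hrv, h2, hv] at h1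
    have h3 := cong_two hr hs (Ne.symm hsr) hrG hsG
    have h4 := cong_prime hr hrG
    rw [hrv] at h3 h4
    rw [hsu, h4, mul_comm r s] at h3
    rcases h (s * r) (lt_mul_primes hs hr) with e | e | e <;> rw [e] at h1 h3
    · exact absurd (by push_cast at h1; linear_combination h1) (one_ne_zero' hs)
    · refine ⟨e, ?_⟩
      haveI := Fact.mk hr
      exact (mul_eq_zero.1 (by linear_combination h3 : (2 : ZMod r) * u = 0)).resolve_left
        (two_ne_zero' hr hr2)
    · exact absurd (by rw [hv] at h1; linear_combination h1) (two_ne_zero' hs hs2)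
  obtain ⟨hpru, hu0⟩ := hmixed hp hp2 hpr hpG hpu hv1
  obtain ⟨hqru, -⟩ := hmixed hq hq2 hqr hqG hqu hv1'
  have h4 := cong_prime hr hrG
  rw [hrv] at h4
  have hdvd : p * (q * r) ∣ Nat.card G :=
    (Nat.Coprime.mul_right ((Nat.coprime_primes hp hq).2 hpq) ((Nat.coprime_primes hp hr).2 hpr)
      ).mul_dvd_of_dvd_of_dvd hpG (dvd_card_two hq hr hqr hqG hrG)
  have h5 := ((dvd_mul_left r q).trans (dvd_mul_left _ p)).trans (dvd_sum hdvd)
  rw [sum_three hp hq hr hpq hpr hqr, ← ZMod.natCast_eq_zero_iff, hpu, hqu,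
    hrv, hpqv, hpru, hqru] at h5
  push_cast at h5
  rw [hu0, h4] at h5
  rcases h (p * (q * r)) (lt_of_lt_of_le (lt_mul_primes hq hr)
      (Nat.le_mul_of_pos_left _ hp.pos)) with e | e | e <;> rw [e] at h5
  · exact one_ne_zero' hr (by push_cast at h5; linear_combination -h5)
  · exact one_ne_zero' hr (by rw [hu0] at h5; linear_combination -h5)
  · exact two_ne_zero' hr hr2 (by rw [h4] at h5; linear_combination -h5)

/-- (L3) With three primes of count `u`, triples have count `u`. -/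
theorem triple {u v : ℕ} (h : Two G u v) {p q r : ℕ} (hp : p.Prime) (hq : q.Prime) (hr : r.Prime)
    (hp2 : p ≠ 2) (hq2 : q ≠ 2) (hpq : p ≠ q) (hpr : p ≠ r) (hqr : q ≠ r)
    (hpG : p ∣ Nat.card G) (hqG : q ∣ Nat.card G) (hrG : r ∣ Nat.card G) (hpu : num G p = u)
    (hqu : num G q = u) (hru : num G r = u) : num G (p * (q * r)) = u := by
  obtain ⟨hpqv, hv⟩ := pair h hp hq hp2 hpq hpG hqG hpu hqu
  obtain ⟨hprv, -⟩ := pair h hp hr hp2 hpr hpG hrG hpu hru
  obtain ⟨hqrv, -⟩ := pair h hq hr hq2 hqr hqG hrG hqu hru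
  have h2 := cong_prime hp hpG
  rw [hpu] at h2
  have hdvd : p * (q * r) ∣ Nat.card G :=
    (Nat.Coprime.mul_right ((Nat.coprime_primes hp hq).2 hpq) ((Nat.coprime_primes hp hr).2 hpr)
      ).mul_dvd_of_dvd_of_dvd hpG (dvd_card_two hq hr hqr hqG hrG)
  have h5 := (dvd_mul_right p (q * r)).trans (dvd_sum hdvd)
  rw [sum_three hp hq hr hpq hpr hqr, ← ZMod.natCast_eq_zero_iff, hpu, hqu,
    hru, hpqv, hprv, hqrv] at h5
  push_cast at h5
  rw [h2, hv] at h5
  rcases h (p * (q * r)) (lt_of_lt_of_le (lt_mul_primes hq hr)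
      (Nat.le_mul_of_pos_left _ hp.pos)) with e | e | e <;> rw [e] at h5
  · exact absurd (by push_cast at h5; linear_combination h5) (one_ne_zero' hp)
  · exact e
  · exact absurd (by rw [hv] at h5; linear_combination h5) (two_ne_zero' hp hp2)

/-- Sylow orders divide `1 + u` when pairs have count `v ≡ 1`. -/
theorem prime_pow_dvd {u v : ℕ} (h : Two G u v) {p : ℕ} (hp : p.Prime) (_hp2 : p ≠ 2)
    (hpu : num G p = u) (hv : (v : ZMod p) = 1) (k : ℕ) (hk : p ^ k ∣ Nat.card G) :
    p ^ k ∣ 1 + u := by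
  rcases Nat.eq_zero_or_pos k with rfl | hk0
  · rw [pow_zero]; exact one_dvd _
  have hpG : p ∣ Nat.card G := (dvd_pow_self p hk0.ne').trans hk
  have h2 := cong_prime hp hpG
  rw [hpu] at h2
  have hzero : ∀ i, 2 ≤ i → num G (p ^ i) = 0 := by
    intro i hi
    have hd : p ∣ num G (p ^ i) := by
      refine dvd_trans ?_ (totient_dvd_num _)
      rw [Nat.totient_prime_pow hp (by omega)]
      exact (dvd_pow_self p (by omega)).mul_right _
    rw [← ZMod.natCast_eq_zero_iff] at hd
    refine (h (p ^ i) ?_).resolve_right fun e => ?_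
    · exact lt_of_lt_of_le (by norm_num : 2 < 2 ^ 2)
        ((Nat.pow_le_pow_left hp.two_le 2).trans (Nat.pow_le_pow_right hp.pos hi))
    · rcases e with e | e <;> rw [e] at hd
      · rw [h2, neg_eq_zero] at hd; exact one_ne_zero' hp hd
      · rw [hv] at hd; exact one_ne_zero' hp hd
  have hs := dvd_sum hk
  rw [Nat.sum_divisors_prime_pow hp] at hs
  obtain ⟨j, rfl⟩ := Nat.exists_eq_add_of_le hk0
  rw [show 1 + j + 1 = j + 2 by ring, Finset.sum_range_succ', Finset.sum_range_succ'] at hs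
  simp only [zero_add, pow_zero, pow_one, num_one] at hs
  rw [Finset.sum_eq_zero (fun i _ => hzero (i + 1 + 1) (by omega)), zero_add, hpu] at hs
  rw [Nat.add_comm 1 u]
  exact hs

/-- An involution count at least 2 leaves at most one odd prime. -/
theorem false_of_many_involutions {u v : ℕ} (h : Two G u v) (hu : Odd u) {p q : ℕ} (hp : p.Prime)
    (hq : q.Prime) (hp2 : p ≠ 2) (hq2 : q ≠ 2) (hpq : p ≠ q) (hpG : p ∣ Nat.card G)
    (hqG : q ∣ Nat.card G) : False := by
  have hval : ∀ m, 2 < m → num G m = 0 ∨ num G m = v := fun m hm =>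
    (h m hm).imp_right fun e => e.resolve_left fun e' =>
      Nat.not_even_iff_odd.2 hu (e' ▸ even_iff_two_dvd.2 (two_dvd_num hm))
  have hpv : num G p = v :=
    (hval p (lt_of_le_of_ne hp.two_le hp2.symm)).resolve_left (num_prime_ne_zero hp hpG)
  have hqv : num G q = v :=
    (hval q (lt_of_le_of_ne hq.two_le hq2.symm)).resolve_left (num_prime_ne_zero hq hqG)
  have h1 := cong_two hp hq hpq hpG hqG
  have h2 := cong_prime hp hpG
  rw [hpv] at h1 h2
  rw [hqv, h2] at h1
  rcases hval (p * q) (lt_mul_primes hp hq) with e | e <;> rw [e] at h1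
  · exact one_ne_zero' hp (by push_cast at h1; linear_combination -h1)
  · exact two_ne_zero' hp hp2 (by rw [h2] at h1; linear_combination -h1)

/-- With a single involution, elements of order `2m` (`m` odd) correspond to elements of order `m`. -/
theorem num_two_mul (h1 : num G 2 = 1) {m : ℕ} (hm : Odd m) : num G (2 * m) = num G m := by
  obtain ⟨z, hz⟩ := num_ne_zero_iff.1 (by rw [h1]; exact one_ne_zero : num G 2 ≠ 0)
  have hsub : Subsingleton {g : G // orderOf g = 2} := (Nat.card_eq_one_iff_unique.1 h1).1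
  have uniq : ∀ g : G, orderOf g = 2 → g = z := fun g hg =>
    congrArg Subtype.val (Subsingleton.elim (⟨g, hg⟩ : {g : G // orderOf g = 2}) ⟨z, hz⟩)
  have hzz : z * z = 1 := by rw [← pow_two, ← hz, pow_orderOf_eq_one]
  have hzc : ∀ g : G, Commute z g := fun g => by
    have := uniq (g * z * g⁻¹) (by rw [← MulAut.conj_apply, MulEquiv.orderOf_eq, hz])
    exact (mul_inv_eq_iff_eq_mul.1 this).symm
  have hcop : Nat.Coprime 2 m := Nat.coprime_two_left.2 hm
  have hto : ∀ x : G, orderOf x = m → orderOf (z * x) = 2 * m := fun x hx => by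
    rw [(hzc x).orderOf_mul_eq_mul_orderOf_of_coprime (by rw [hz, hx]; exact hcop), hz, hx]
  have hinv : ∀ y : G, orderOf y = 2 * m → orderOf (z * y) = m := fun y hy => by
    have hym : y ^ m = z := uniq _ (by
      have hm0 : 0 < m := by rcases hm with ⟨j, rfl⟩; omega
      rw [orderOf_pow, hy, Nat.gcd_eq_right (dvd_mul_left m 2), Nat.mul_div_cancel _ hm0])
    have hw : (z * y) ^ m = 1 := by
      obtain ⟨j, hj⟩ := hm
      rw [(hzc y).mul_pow, hym, ← pow_succ,
        show m + 1 = 2 * (j + 1) by omega, pow_mul, pow_two, hzz, one_pow]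
    have hcop' : (orderOf z).Coprime (orderOf (z * y)) := by
      rw [hz]; exact hcop.coprime_dvd_right (orderOf_dvd_of_pow_eq_one hw)
    have h2 := (hzc (z * y)).orderOf_mul_eq_mul_orderOf_of_coprime hcop'
    rw [← mul_assoc, hzz, one_mul, hy, hz] at h2
    exact (Nat.eq_of_mul_eq_mul_left two_pos h2).symm
  exact (Nat.card_congr
    { toFun := fun x => ⟨z * x.1, hto x.1 x.2⟩
      invFun := fun y => ⟨z * y.1, hinv y.1 y.2⟩
      left_inv := fun x => Subtype.ext (by simp only [← mul_assoc, hzz, one_mul])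
      right_inv := fun y => Subtype.ext (by simp only [← mul_assoc, hzz, one_mul]) }).symm

/-- The values hypothesis gives `Two`. -/
theorem exists_two
    (h : (((fun m : ℕ => num G m) '' Set.range (orderOf : G → ℕ))).ncard = 3) :
    ∃ u v : ℕ, u ≠ v ∧ Two G u v ∧ (num G 2 = 0 ∨ num G 2 = 1 ∨ (Odd (num G 2) ∧ num G 2 = u)) ∧
      1 < u ∧ 1 < v := by
  set V := (fun m : ℕ => num G m) '' Set.range (orderOf : G → ℕ) with hV
  have h1 : 1 ∈ V := ⟨1, ⟨1, orderOf_one⟩, num_one⟩
  have hW : (V \ {1}).ncard = 2 := by rw [Set.ncard_sdiff_singleton_of_mem h1, h]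
  obtain ⟨a, b, hab, hWab⟩ := Set.ncard_eq_two.1 hW
  have hmem : ∀ m, num G m ≠ 0 → num G m ∈ V := fun m hm =>
    ⟨m, num_ne_zero_iff.1 hm, rfl⟩
  have hval : ∀ m, num G m ≠ 0 → num G m ≠ 1 → num G m = a ∨ num G m = b := fun m hm hm1 => by
    have : num G m ∈ V \ {1} := ⟨hmem m hm, hm1⟩
    rwa [hWab] at this
  have htwo : Two G a b := by
    intro m hm
    by_cases h0 : num G m = 0
    · exact Or.inl h0
    refine Or.inr (hval m h0 fun e => ?_)
    have := two_dvd_num (G := G) hm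
    rw [e] at this
    omega
  have hgt : ∀ c ∈ V \ {1}, 1 < c := by
    rintro c ⟨⟨m, hm, rfl⟩, hc⟩
    have h0 : num G m ≠ 0 := num_ne_zero_iff.2 hm
    have hc' : num G m ≠ 1 := hc
    show 1 < num G m
    omega
  have ha : 1 < a := hgt a (by rw [hWab]; exact Set.mem_insert a {b})
  have hb : 1 < b := hgt b (by rw [hWab]; exact Set.mem_insert_of_mem a rfl)
  by_cases h2 : num G 2 = 0
  · exact ⟨a, b, hab, htwo, Or.inl h2, ha, hb⟩
  by_cases h21 : num G 2 = 1
  · exact ⟨a, b, hab, htwo, Or.inr (Or.inl h21), ha, hb⟩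
  have hodd : Odd (num G 2) := by
    obtain ⟨g, hg⟩ := num_ne_zero_iff.1 h2
    have h2G : 2 ∣ Nat.card G := hg ▸ orderOf_dvd_natCard g
    have := dvd_sum h2G
    rw [Nat.prime_two.divisors, Finset.sum_pair (by norm_num), num_one] at this
    rw [Nat.odd_iff]; omega
  rcases hval 2 h2 h21 with e | e
  · exact ⟨a, b, hab, htwo, Or.inr (Or.inr ⟨hodd, e⟩), ha, hb⟩
  · exact ⟨b, a, hab.symm, htwo.symm, Or.inr (Or.inr ⟨hodd, e⟩), hb, ha⟩

/-- Three odd primes are impossible. -/
theorem not_three_odd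
    (h : (((fun m : ℕ => num G m) '' Set.range (orderOf : G → ℕ))).ncard = 3) {p q r : ℕ}
    (hp : p.Prime) (hq : q.Prime) (hr : r.Prime) (hp2 : p ≠ 2) (hq2 : q ≠ 2) (hr2 : r ≠ 2)
    (hpq : p ≠ q) (hpr : p ≠ r) (hqr : q ≠ r) (hpG : p ∣ Nat.card G) (hqG : q ∣ Nat.card G)
    (hrG : r ∣ Nat.card G) : False := by
  obtain ⟨u, v, -, htwo, h2, hu, hv⟩ := exists_two h
  by_cases hodd : Odd (num G 2) ∧ num G 2 = u
  · exact false_of_many_involutions htwo (hodd.2 ▸ hodd.1) hp hq hp2 hq2 hpq hpG hqG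
  have h01 : num G 2 = 0 ∨ num G 2 = 1 := by tauto
  -- all three counts agree
  have hall : ∀ {u v : ℕ}, Two G u v → num G p = u → num G q = u ∧ num G r = u := by
    intro u v ht hpu
    rcases ht.prime hq hq2 hqG with eq | eq <;> rcases ht.prime hr hr2 hrG with er | er
    · exact ⟨eq, er⟩
    · exact (same ht hp hq hr hp2 hq2 hr2 hpq hpr hqr hpG hqG hrG hpu eq er).elim
    · exact (same ht hp hr hq hp2 hr2 hq2 hpr hpq hqr.symm hpG hrG hqG hpu er eq).elim
    · exact (same ht.symm hq hr hp hq2 hr2 hp2 hqr hpq.symm hpr.symm hqG hrG hpG eq er hpu).elim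
  obtain ⟨u, v, ht, hpu, hu, hv⟩ : ∃ u v, Two G u v ∧ num G p = u ∧ 1 < u ∧ 1 < v := by
    rcases htwo.prime hp hp2 hpG with e | e
    · exact ⟨u, v, htwo, e, hu, hv⟩
    · exact ⟨v, u, htwo.symm, e, hv, hu⟩
  obtain ⟨hqu, hru⟩ := hall ht hpu
  have hall' : ∀ s, s.Prime → s ≠ 2 → s ∣ Nat.card G → num G s = u ∧ (v : ZMod s) = 1 := by
    intro s hs hs2 hsG
    have hsu : num G s = u := by
      rcases ht.prime hs hs2 hsG with e | e
      · exact e
      · by_cases hsp : s = p
        · rw [hsp]; exact hpu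
        by_cases hsq : s = q
        · rw [hsq]; exact hqu
        exact (same ht hp hq hs hp2 hq2 hs2 hpq (Ne.symm hsp) (Ne.symm hsq) hpG hqG hsG hpu hqu e).elim
    refine ⟨hsu, ?_⟩
    by_cases hsp : s = p
    · exact (pair ht hs hq hs2 (hsp ▸ hpq) hsG hqG hsu hqu).2
    · exact (pair ht hs hp hs2 hsp hsG hpG hsu hpu).2
  have hpqv := (pair ht hp hq hp2 hpq hpG hqG hpu hqu).1
  -- `4 ∤ |G|`
  have h4 : ¬ 4 ∣ Nat.card G := by
    intro h4
    have htri := triple ht hp hq hr hp2 hq2 hpq hpr hqr hpG hqG hrG hpu hqu hru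
    have h4u : 4 ∣ u := by
      rw [← htri]
      refine dvd_trans ?_ (totient_dvd_num _)
      exact dvd_trans (four_dvd_totient_mul hq hr hq2 hr2 hqr) (Nat.totient_dvd_of_dvd (dvd_mul_left _ p))
    have h4v : 4 ∣ v := by
      rw [← hpqv]
      exact (four_dvd_totient_mul hp hq hp2 hq2 hpq).trans (totient_dvd_num _)
    have hs := dvd_sum h4
    rw [show (4 : ℕ).divisors = {1, 2, 4} by decide, Finset.sum_insert (by decide),
      Finset.sum_pair (by decide), num_one] at hs
    have hne : num G 2 ≠ 0 := num_prime_ne_zero Nat.prime_two ((by norm_num : 2 ∣ 4).trans h4)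
    rcases ht 4 (by norm_num) with e | e | e <;> omega
  -- `|G|` divides `2 (1 + u)`
  have hG : Nat.card G ∣ 2 * (1 + u) := by
    refine (Nat.dvd_iff_prime_pow_dvd_dvd _ _).2 fun s k hs hsk => ?_
    rcases Nat.eq_zero_or_pos k with rfl | hk0
    · rw [pow_zero]; exact one_dvd _
    by_cases hs2 : s = 2
    · subst hs2
      rcases (by omega : k = 1 ∨ 2 ≤ k) with rfl | hk2
      · rw [pow_one]; exact dvd_mul_right 2 _
      · exact absurd ((pow_dvd_pow 2 hk2).trans hsk) h4
    · obtain ⟨hsu, hsv⟩ := hall' s hs hs2 ((dvd_pow_self s hk0.ne').trans hsk)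
      exact (prime_pow_dvd ht hs hs2 hsu hsv k hsk).mul_left 2
  have hle := Nat.le_of_dvd (by omega) hG
  have hsum := sum_le (G := G) (n := p * (q * r))
    (Nat.mul_ne_zero hp.ne_zero (Nat.mul_ne_zero hq.ne_zero hr.ne_zero))
  rw [sum_three hp hq hr hpq hpr hqr, hpu, hqu, hru, hpqv] at hsum
  omega

/-- Two odd primes force `4 ∤ |G|`. -/
theorem not_four_dvd
    (h : (((fun m : ℕ => num G m) '' Set.range (orderOf : G → ℕ))).ncard = 3) {p q : ℕ}
    (hp : p.Prime) (hq : q.Prime) (hp2 : p ≠ 2) (hq2 : q ≠ 2)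
    (hpq : p ≠ q) (hpG : p ∣ Nat.card G) (hqG : q ∣ Nat.card G) : ¬ 4 ∣ Nat.card G := by
  intro h4
  obtain ⟨u, v, -, htwo, h2, -, -⟩ := exists_two h
  by_cases hodd : Odd (num G 2) ∧ num G 2 = u
  · exact false_of_many_involutions htwo (hodd.2 ▸ hodd.1) hp hq hp2 hq2 hpq hpG hqG
  have h21 : num G 2 = 1 := by
    have : num G 2 ≠ 0 := num_prime_ne_zero Nat.prime_two ((by norm_num : 2 ∣ 4).trans h4)
    tauto
  have hs4 := dvd_sum h4
  rw [show (4 : ℕ).divisors = {1, 2, 4} by decide, Finset.sum_insert (by decide),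
    Finset.sum_pair (by decide), num_one, h21] at hs4
  have hpq4 : 4 ∣ num G (p * q) :=
    (four_dvd_totient_mul hp hq hp2 hq2 hpq).trans (totient_dvd_num _)
  -- main computation: `num 4 = num p`
  have main : ∀ {p q u v : ℕ}, p.Prime → q.Prime → p ≠ 2 → q ≠ 2 → p ≠ q → p ∣ Nat.card G →
      q ∣ Nat.card G → Two G u v → num G 4 = u → num G p = u → False := by
    intro p q u v hp hq hp2 hq2 hpq hpG hqG ht h4u hpu
    have hpq4 : 4 ∣ num G (p * q) :=
      (four_dvd_totient_mul hp hq hp2 hq2 hpq).trans (totient_dvd_num _)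
    have h2 := cong_prime hp hpG
    rw [hpu] at h2
    have hc4 : (Nat.Coprime 4 p) := by
      rw [show (4 : ℕ) = 2 ^ 2 by norm_num]
      exact Nat.Coprime.pow_left 2 ((Nat.coprime_primes Nat.prime_two hp).2 hp2.symm)
    have hp4 : ¬ p ∣ 4 := fun hd => hp2 ((Nat.prime_dvd_prime_iff_eq hp Nat.prime_two).1
      (hp.dvd_of_dvd_pow (show p ∣ 2 ^ 2 from hd)))
    have h2p : num G (p * 2) = u := by rw [mul_comm, num_two_mul h21 (hp.odd_of_ne_two hp2), hpu]
    -- `num 4p = v ≡ 1`
    have h4pd : p * 4 ∣ Nat.card G := hc4.symm.mul_dvd_of_dvd_of_dvd hpG h4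
    have hs := (dvd_mul_right p 4).trans (dvd_sum h4pd)
    rw [sum_divisors_prime_mul hp hp4, show (4 : ℕ).divisors = {1, 2, 4} by decide,
      Finset.sum_insert (by decide), Finset.sum_pair (by decide), Finset.sum_insert (by decide),
      Finset.sum_pair (by decide), mul_one, num_one, h21, h4u, hpu, h2p,
      ← ZMod.natCast_eq_zero_iff] at hs
    push_cast at hs
    rw [h2] at hs
    obtain ⟨h4p, hv⟩ : num G (p * 4) = v ∧ (v : ZMod p) = 1 := by
      rcases ht (p * 4) (by have := hp.two_le; omega) with e | e | e <;> rw [e] at hs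
      · exact absurd (by push_cast at hs; linear_combination -hs) (one_ne_zero' hp)
      · exact absurd (by rw [h2] at hs; linear_combination -hs) (two_ne_zero' hp hp2)
      · exact ⟨e, by linear_combination hs⟩
    have h1 := cong_two hp hq hpq hpG hqG
    rw [hpu, h2] at h1
    rcases ht.prime hq hq2 hqG with hqu | hqv
    · -- both counts `u`
      rw [hqu, h2] at h1
      obtain ⟨hpqv, -⟩ := pair ht hp hq hp2 hpq hpG hqG hpu hqu
      have hq4 : ¬ q ∣ 4 := fun hd => hq2 ((Nat.prime_dvd_prime_iff_eq hq Nat.prime_two).1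
        (hq.dvd_of_dvd_pow (show q ∣ 2 ^ 2 from hd)))
      have h2q : num G (q * 2) = u := by rw [mul_comm, num_two_mul h21 (hq.odd_of_ne_two hq2), hqu]
      have h2qG : (q : ZMod q) = 0 := ZMod.natCast_self q
      have hvq := (pair ht hq hp hq2 hpq.symm hqG hpG hqu hpu).2
      have hqc4 : (Nat.Coprime 4 q) := by
        rw [show (4 : ℕ) = 2 ^ 2 by norm_num]
        exact Nat.Coprime.pow_left 2 ((Nat.coprime_primes Nat.prime_two hq).2 hq2.symm)
      have h4qd : q * 4 ∣ Nat.card G := hqc4.symm.mul_dvd_of_dvd_of_dvd hqG h4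
      have hsq := (dvd_mul_right q 4).trans (dvd_sum h4qd)
      have h2' := cong_prime hq hqG
      rw [hqu] at h2'
      rw [sum_divisors_prime_mul hq hq4, show (4 : ℕ).divisors = {1, 2, 4} by decide,
        Finset.sum_insert (by decide), Finset.sum_pair (by decide), Finset.sum_insert (by decide),
        Finset.sum_pair (by decide), mul_one, num_one, h21, h4u, hqu, h2q,
        ← ZMod.natCast_eq_zero_iff] at hsq
      push_cast at hsq
      rw [h2'] at hsq
      have h4q : num G (q * 4) = v := by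
        rcases ht (q * 4) (by have := hq.two_le; omega) with e | e | e <;> rw [e] at hsq
        · exact absurd (by push_cast at hsq; linear_combination -hsq) (one_ne_zero' hq)
        · exact absurd (by rw [h2'] at hsq; linear_combination -hsq) (two_ne_zero' hq hq2)
        · exact e
      have hpq2 : num G (p * (q * 2)) = v := by
        rw [show p * (q * 2) = 2 * (p * q) by ring,
          num_two_mul h21 ((hp.odd_of_ne_two hp2).mul (hq.odd_of_ne_two hq2)), hpqv]
      have hpn : ¬ p ∣ q * 4 := fun hd => (hp.dvd_mul.1 hd).elim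
        (fun hh => hpq ((Nat.prime_dvd_prime_iff_eq hp hq).1 hh)) hp4
      have hbig : p * (q * 4) ∣ Nat.card G :=
        (Nat.Coprime.mul_right ((Nat.coprime_primes hp hq).2 hpq) hc4.symm).mul_dvd_of_dvd_of_dvd hpG h4qd
      have hsb := (dvd_mul_right p (q * 4)).trans (dvd_sum hbig)
      rw [sum_divisors_prime_mul hp hpn, sum_divisors_prime_mul hq hq4,
        sum_divisors_prime_mul hq hq4, show (4 : ℕ).divisors = {1, 2, 4} by decide,
        Finset.sum_insert (by decide), Finset.sum_pair (by decide), Finset.sum_insert (by decide),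
        Finset.sum_pair (by decide), Finset.sum_insert (by decide), Finset.sum_pair (by decide),
        Finset.sum_insert (by decide), Finset.sum_pair (by decide), mul_one, mul_one,
        num_one, h21, h4u, hpu, hqu, h2p, h2q, h4p, h4q, hpqv, hpq2,
        ← ZMod.natCast_eq_zero_iff] at hsb
      push_cast at hsb
      rw [h2, hv] at hsb
      rcases ht (p * (q * 4)) (by have := hp.two_le; have := hq.two_le; nlinarith) with e | e | e <;>
        rw [e] at hsb
      · exact one_ne_zero' hp (by push_cast at hsb; linear_combination hsb)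
      · have h4' : 4 ∣ num G (p * (q * 4)) := dvd_trans
          ((four_dvd_totient_mul hp hq hp2 hq2 hpq).trans
            (Nat.totient_dvd_of_dvd (Nat.mul_dvd_mul_left p (dvd_mul_right q 4))))
          (totient_dvd_num _)
        omega
      · exact two_ne_zero' hp hp2 (by rw [hv] at hsb; linear_combination hsb)
    · rw [hqv, hv] at h1
      rcases ht (p * q) (lt_mul_primes hp hq) with e | e | e <;> rw [e] at h1
      · exact one_ne_zero' hp (by push_cast at h1; linear_combination h1)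
      · omega
      · exact two_ne_zero' hp hp2 (by rw [hv] at h1; linear_combination h1)
  obtain ⟨u, v, ht, h4u⟩ : ∃ u v, Two G u v ∧ num G 4 = u := by
    rcases htwo 4 (by norm_num) with e | e | e
    · omega
    · exact ⟨u, v, htwo, e⟩
    · exact ⟨v, u, htwo.symm, e⟩
  rcases ht.prime hp hp2 hpG with hpu | hpv
  · exact main hp hq hp2 hq2 hpq hpG hqG ht h4u hpu
  rcases ht.prime hq hq2 hqG with hqu | hqv
  · exact main hq hp hq2 hp2 hpq.symm hqG hpG ht h4u hqu
  · obtain ⟨hu, -⟩ := pair ht.symm hp hq hp2 hpq hpG hqG hpv hqv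
    omega

/-- A number with two prime divisors is `p ^ a * q ^ b`. -/
theorem exists_pow_mul_pow {n p q : ℕ} (hn : n ≠ 0) (hp : p.Prime)
    (h : ∀ r : ℕ, r.Prime → r ∣ n → r = p ∨ r = q) : ∃ a b : ℕ, n = p ^ a * q ^ b := by
  obtain ⟨a, m, hm, rfl⟩ := Nat.exists_eq_pow_mul_and_not_dvd hn p hp.ne_one
  have hm0 : m ≠ 0 := fun e => hm (e ▸ dvd_zero p)
  refine ⟨a, m.primeFactorsList.length, ?_⟩
  rw [← Nat.eq_prime_pow_of_unique_prime_dvd hm0 fun {d} hd hdm =>
    (h d hd (hdm.mul_left _)).resolve_left fun e => hm (e ▸ hdm)]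

end Cfsg.Agent.OrderCounts
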